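import Cfsg.Agent.Lib.OddOrder.TypeOne
import Cfsg.Agent.Lib.OddOrder.Basic
import Cfsg.Agent.Lib.Cores.Pi

/-!
# Peterfalvi §8: invariance of the types and of the attached sets under isomorphisms
-/

set_option autoImplicit false

open scoped Pointwise commutatorElement

namespace Cfsg.Agent.Lib.OddOrder.PF8.Conj

open Cfsg.Agent.Lib.OddOrder.Basic

universe u

variable {G G' : Type u} [Group G] [Group G'] (φ : G ≃* G')

/-- Image of a subgroup. -/
abbrev im (M : Subgroup G) : Subgroup G' := M.map φ.toMonoidHom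

theorem mem_im {M : Subgroup G} {x : G} : φ x ∈ im φ M ↔ x ∈ M :=
  Subgroup.mem_map_iff_mem (f := φ.toMonoidHom) φ.injective

theorem mem_im' {M : Subgroup G} {y : G'} : y ∈ im φ M ↔ φ.symm y ∈ M := by
  rw [← mem_im φ, MulEquiv.apply_symm_apply]

theorem im_symm_im (M : Subgroup G) : im φ.symm (im φ M) = M := by
  rw [im, im, Subgroup.map_map]; convert Subgroup.map_id M; ext x; simp

theorem im_le {A B : Subgroup G} : im φ A ≤ im φ B ↔ A ≤ B :=
  Subgroup.map_le_map_iff_of_injective φ.injective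

theorem im_inj {A B : Subgroup G} : im φ A = im φ B ↔ A = B :=
  (Subgroup.map_injective φ.injective).eq_iff

theorem im_ne_bot {A : Subgroup G} : im φ A ≠ ⊥ ↔ A ≠ ⊥ := by
  rw [Ne, ← Subgroup.map_bot φ.toMonoidHom, im_inj]

theorem im_card (A : Subgroup G) : Nat.card (im φ A) = Nat.card A :=
  Subgroup.card_map_of_injective φ.injective

theorem im_sup (A B : Subgroup G) : im φ (A ⊔ B) = im φ A ⊔ im φ B := Subgroup.map_sup _ _ _

theorem im_inf (A B : Subgroup G) : im φ (A ⊓ B) = im φ A ⊓ im φ B :=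
  Subgroup.map_inf _ _ _ φ.injective

theorem im_commutator (A B : Subgroup G) : im φ ⁅A, B⁆ = ⁅im φ A, im φ B⁆ :=
  Subgroup.map_commutator _ _ _

theorem im_centralizer (S : Set G) : im φ (Subgroup.centralizer S) = Subgroup.centralizer (φ '' S) := by
  ext y
  rw [mem_im', Subgroup.mem_centralizer_iff, Subgroup.mem_centralizer_iff, Set.forall_mem_image]
  refine forall₂_congr fun x _ => ?_
  rw [← φ.injective.eq_iff, map_mul, map_mul, MulEquiv.apply_symm_apply]

theorem im_centralizer_singleton (x : G) :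
    im φ (Subgroup.centralizer {x}) = Subgroup.centralizer {φ x} := by
  rw [im_centralizer, Set.image_singleton]

theorem im_centralizer_coe (A : Subgroup G) :
    im φ (Subgroup.centralizer (A : Set G)) = Subgroup.centralizer (im φ A : Set G') := by
  rw [im_centralizer]; rfl

theorem im_normalizer (S : Set G) : im φ (Subgroup.normalizer S) = Subgroup.normalizer (φ '' S) := by
  ext y
  rw [mem_im', Subgroup.mem_set_normalizer_iff, Subgroup.mem_set_normalizer_iff, φ.toEquiv.forall_congr_left]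
  refine forall_congr' fun x => iff_congr ?_ ?_
  · exact (φ.toEquiv.image_eq_preimage_symm S).symm ▸ Iff.rfl
  · have : φ (φ.symm y * φ.symm x * (φ.symm y)⁻¹) = y * x * y⁻¹ := by simp
    change φ.symm y * φ.symm x * (φ.symm y)⁻¹ ∈ S ↔ _
    rw [← this, φ.injective.mem_set_image]

theorem im_normalizer_coe (A : Subgroup G) :
    im φ (Subgroup.normalizer (A : Set G)) = Subgroup.normalizer (im φ A : Set G') := by
  rw [im_normalizer]; rfl

theorem im_relIndex (A B : Subgroup G) : (im φ A).relIndex (im φ B) = A.relIndex B := by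
  rw [Subgroup.relIndex, Subgroup.relIndex]
  exact Subgroup.relIndex_map_map_of_injective _ _ φ.injective

theorem im_isCyclic {A : Subgroup G} (h : IsCyclic A) : IsCyclic (im φ A) :=
  isCyclic_of_surjective (φ.subgroupMap A).toMonoidHom (φ.subgroupMap A).surjective

theorem im_isCyclic_iff {A : Subgroup G} : IsCyclic (im φ A) ↔ IsCyclic A :=
  ⟨fun h => by have := im_isCyclic φ.symm h; rwa [im_symm_im] at this, im_isCyclic φ⟩

theorem im_isMulCommutative {A : Subgroup G} (h : IsMulCommutative A) : IsMulCommutative (im φ A) := by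
  haveI := h
  exact inferInstanceAs (IsMulCommutative (A.map φ.toMonoidHom))

theorem im_isMulCommutative_iff {A : Subgroup G} : IsMulCommutative (im φ A) ↔ IsMulCommutative A :=
  ⟨fun h => by have := im_isMulCommutative φ.symm h; rwa [im_symm_im] at this, im_isMulCommutative φ⟩

theorem isTISubset_image {X : Set G} (h : Cfsg.IsTISubset X) : Cfsg.IsTISubset (φ '' X) := by
  intro g hg y hy hgy
  obtain ⟨x, hx, rfl⟩ := hy
  have hg' : φ.symm g ∉ Subgroup.normalizer X := by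
    rwa [← im_normalizer, mem_im'] at hg
  have : x = 1 := h _ hg' x hx (by
    rw [← φ.injective.mem_set_image]
    simpa using hgy)
  rw [this, map_one]

theorem coe_im (A : Subgroup G) : ((im φ A : Subgroup G') : Set G') = φ '' (A : Set G) := rfl

theorem isSelfNormalizingCyclic_im {A B : Subgroup G} (h : Cfsg.IsSelfNormalizingCyclic A B) :
    Cfsg.IsSelfNormalizingCyclic (im φ A) (im φ B) := by
  obtain ⟨h1, h2, h3, h4, h5, h6⟩ := h
  refine ⟨(im_ne_bot φ).2 h1, (im_ne_bot φ).2 h2, ?_, ?_, ?_, fun X hX hne => ?_⟩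
  · rw [← im_inf, h3]; exact Subgroup.map_bot _
  · rintro _ ⟨a, ha, rfl⟩ _ ⟨b, hb, rfl⟩
    rw [← map_mul, ← map_mul, h4 a ha b hb]
  · rw [← im_sup]; exact im_isCyclic φ h5
  · rw [← im_sup, coe_im, coe_im, coe_im, ← Set.image_union, ← Set.image_sdiff φ.injective] at hX
    obtain ⟨Y, hY, rfl⟩ := Set.subset_image_iff.1 hX
    rw [← im_normalizer, h6 Y hY hne.of_image, im_sup]

theorem isComplIn_im {A B M : Subgroup G} (h : Cfsg.IsComplIn A B M) :
    Cfsg.IsComplIn (im φ A) (im φ B) (im φ M) := by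
  obtain ⟨h1, h2, h3, h4⟩ := h
  refine ⟨(im_le φ).2 h1, (im_le φ).2 h2, ?_, ?_⟩
  · rw [← im_inf, h3]; exact Subgroup.map_bot _
  · rintro _ ⟨m, hm, rfl⟩
    obtain ⟨a, ha, b, hb, rfl⟩ := h4 m hm
    exact ⟨φ a, (mem_im φ).2 ha, φ b, (mem_im φ).2 hb, map_mul φ a b⟩

/-- `M ≃* φ(M)`. -/
noncomputable def imEquiv (M : Subgroup G) : M ≃* im φ M := φ.subgroupMap M

theorem imEquiv_comp (M : Subgroup G) :
    (im φ M).subtype.comp (imEquiv φ M).toMonoidHom = φ.toMonoidHom.comp M.subtype := rfl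

theorem map_map_imEquiv (M : Subgroup G) (N : Subgroup M) :
    (N.map (imEquiv φ M).toMonoidHom).map (im φ M).subtype = im φ (N.map M.subtype) := by
  rw [Subgroup.map_map, imEquiv_comp, ← Subgroup.map_map]

theorem map_fittingHall_equiv {A B : Type u} [Group A] [Group B] (e : A ≃* B) :
    (Cfsg.fittingHall A).map e.toMonoidHom = Cfsg.fittingHall B := by
  have key : ∀ {A B : Type u} [Group A] [Group B] (e : A ≃* B),
      (Cfsg.fittingHall A).map e.toMonoidHom ≤ Cfsg.fittingHall B := by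
    intro A B _ _ e
    rw [Subgroup.map_le_iff_le_comap]
    refine sSup_le ?_
    rintro N ⟨hN, hnil, hcop⟩
    rw [← Subgroup.map_le_iff_le_comap]
    refine le_sSup ⟨hN.map _ e.surjective, Cfsg.Agent.Lib.Cores.isNilpotent_map _ hnil, ?_⟩
    rw [Subgroup.card_map_of_injective e.injective,
      show (N.map e.toMonoidHom).index = N.index from Subgroup.index_map_equiv N e]
    exact hcop
  refine le_antisymm (key e) fun b hb => ?_
  exact ⟨e.symm b, key e.symm ⟨b, hb, rfl⟩, e.apply_symm_apply b⟩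

theorem im_fittingHallOf (M : Subgroup G) :
    im φ (Cfsg.fittingHallOf M) = Cfsg.fittingHallOf (im φ M) := by
  rw [Cfsg.fittingHallOf, Cfsg.fittingHallOf, ← map_map_imEquiv, map_fittingHall_equiv]

theorem im_fittingOf (M : Subgroup G) : im φ (Cfsg.fittingOf M) = Cfsg.fittingOf (im φ M) := by
  rw [Cfsg.fittingOf, Cfsg.fittingOf, ← map_map_imEquiv, Cfsg.Agent.Lib.Cores.map_fittingSubgroup_equiv]

theorem isTypePWith_im {M W₁ U W₂ : Subgroup G} (h : Cfsg.IsTypePWith M W₁ U W₂) :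
    Cfsg.IsTypePWith (im φ M) (im φ W₁) (im φ U) (im φ W₂) where
  W₁_ne := (im_ne_bot φ).2 h.W₁_ne
  W₁_cyclic := im_isCyclic φ h.W₁_cyclic
  W₁_hall := by rw [im_relIndex, im_card]; exact h.W₁_hall
  W₁_compl := by rw [← im_commutator]; exact isComplIn_im φ h.W₁_compl
  U_nilpotent := Cfsg.Agent.Lib.Cores.isNilpotent_map _ h.U_nilpotent
  U_normal := by rw [← im_normalizer_coe]; exact (im_le φ).2 h.U_normal
  U_compl := by rw [← im_commutator, ← im_fittingHallOf]; exact isComplIn_im φ h.U_compl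
  H_not_cyclic := by rw [← im_fittingHallOf, im_isCyclic_iff]; exact h.H_not_cyclic
  derived_two_le := by
    rw [← im_commutator, ← im_commutator, ← im_fittingHallOf, ← im_centralizer_coe, ← im_inf, ← im_sup]
    exact (im_le φ).2 h.derived_two_le
  fitting_eq := by
    rw [← im_fittingHallOf, ← im_centralizer_coe, ← im_inf, ← im_sup, h.fitting_eq, im_fittingOf]
  fitting_le := by rw [← im_fittingOf, ← im_commutator]; exact (im_le φ).2 h.fitting_le
  W₂_le := by
    rw [← im_commutator, ← im_commutator, ← im_fittingHallOf, ← im_inf]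
    exact (im_le φ).2 h.W₂_le
  W₂_centralizer := by
    rintro _ ⟨x, hx, rfl⟩ hx1
    rw [← im_commutator, show φ.toMonoidHom x = φ x from rfl, ← im_centralizer_singleton, ← im_inf,
      h.W₂_centralizer x hx fun e => hx1 (by simp [e])]
  selfNormalizing := isSelfNormalizingCyclic_im φ h.selfNormalizing

theorem isOfTypeF_equiv {A B : Type u} [Group A] [Group B] (e : A ≃* B)
    (h : Cfsg.IsOfTypeF A) : Cfsg.IsOfTypeF B := by
  obtain ⟨h1, h2, h3, h4, U, hU, hc, ⟨U₁, hU₁, hn, hab, hfix⟩, U₀, hU₀, hexp, hfpf⟩ := h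
  have hF := map_fittingHall_equiv e
  refine ⟨Group.isSolvable_of_surjective (f := e.toMonoidHom) e.surjective, by rwa [← Nat.card_congr e.toEquiv],
    ?_, ?_, im e U, (im_ne_bot e).2 hU, ?_,
    ⟨im e U₁, (im_le e).2 hU₁, ?_, im_isMulCommutative e hab, ?_⟩,
    im e U₀, (im_le e).2 hU₀, ?_, ?_⟩
  · rw [← hF]; exact (im_ne_bot e).2 h3
  · rw [← hF, ← Subgroup.map_top_of_surjective e.toMonoidHom e.surjective]
    exact fun q => h4 ((im_inj e).1 q)
  · rw [← hF]
    refine Subgroup.isComplement'_of_disjoint_and_mul_eq_univ ?_ ?_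
    · rw [disjoint_iff, ← im_inf, hc.disjoint.eq_bot]; exact Subgroup.map_bot _
    · refine Set.eq_univ_of_forall fun b => ?_
      obtain ⟨⟨x, y⟩, hxy⟩ := hc.2 (e.symm b)
      exact ⟨e x, (mem_im e).2 x.2, e y, (mem_im e).2 y.2, by
        change e x * e y = b
        rw [← map_mul, show (x : A) * y = e.symm b from hxy, e.apply_symm_apply]⟩
  · rw [← im_normalizer_coe]; exact (im_le e).2 hn
  · intro b hb hb1
    rw [← hF] at hb
    obtain ⟨x, hx, rfl⟩ := hb
    rw [show e.toMonoidHom x = e x from rfl, ← im_centralizer_singleton, ← im_inf]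
    exact (im_le e).2 (hfix x hx fun q => hb1 (by simp [q]))
  · rw [Monoid.exponent_eq_of_mulEquiv (imEquiv e U₀).symm, hexp,
      ← Monoid.exponent_eq_of_mulEquiv (imEquiv e U).symm]
  · rintro _ ⟨u, hu, rfl⟩ hu1 x hx hcomm
    rw [← hF] at hx
    obtain ⟨y, hy, rfl⟩ := hx
    have : y = 1 := hfpf u hu (fun q => hu1 (by simp [q])) y hy (e.injective (by simpa using hcomm))
    simp [this]

theorem prankLE_equiv {A B : Type u} [Group A] [Group B] (e : A ≃* B) {p k : ℕ}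
    (h : Cfsg.PRankLE p k A) : Cfsg.PRankLE p k B := by
  intro C hC hp
  have := h (im e.symm C) (im_isMulCommutative e.symm hC) (by
    rintro _ ⟨c, hc, rfl⟩
    rw [← map_pow, hp c hc, map_one])
  rwa [im_card] at this

theorem rankLE_equiv {A B : Type u} [Group A] [Group B] (e : A ≃* B) {k : ℕ}
    (h : Cfsg.RankLE k A) : Cfsg.RankLE k B := fun p hp => prankLE_equiv e (h p hp)

theorem isOfTypeI_im {M : Subgroup G} (h : Cfsg.Agent.Lib.OddOrder.TypeOne.IsTypeI M) : Cfsg.Agent.Lib.OddOrder.TypeOne.IsTypeI (im φ M) := by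
  obtain ⟨hF, hrest⟩ := h
  refine ⟨isOfTypeF_equiv (imEquiv φ M) hF, ?_⟩
  rcases hrest with h1 | ⟨h1, h2, h3⟩ | ⟨h1, p, hp, hd, hcyc⟩
  · exact Or.inl (by rw [← im_fittingHallOf, coe_im]; exact isTISubset_image φ h1)
  · refine Or.inr (Or.inl ?_)
    rw [← im_fittingHallOf]
    exact ⟨im_isMulCommutative φ h1, rankLE_equiv (imEquiv φ _) h2,
      fun h => h3 (rankLE_equiv (imEquiv φ _).symm h)⟩
  · refine Or.inr (Or.inr ⟨fun q hq hqd => ?_, p, hp, ?_, ?_⟩)
    · rw [← im_fittingHallOf, im_card] at hqd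
      rw [← Monoid.exponent_eq_of_mulEquiv (QuotientGroup.congr (Cfsg.fittingHall M)
        (Cfsg.fittingHall ↥(im φ M)) (imEquiv φ M) (map_fittingHall_equiv _))]
      exact h1 q hq hqd
    · rwa [← im_fittingHallOf, im_card]
    · rw [← im_fittingHallOf, ← Cfsg.Agent.Lib.Cores.map_pPrimeCore_equiv (imEquiv φ _)]
      exact im_isCyclic (imEquiv φ _) hcyc

theorem isOfTypeI_im_iff {M : Subgroup G} : Cfsg.Agent.Lib.OddOrder.TypeOne.IsTypeI (im φ M) ↔ Cfsg.Agent.Lib.OddOrder.TypeOne.IsTypeI M :=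
  ⟨fun h => by have := isOfTypeI_im φ.symm h; rwa [im_symm_im] at this, isOfTypeI_im φ⟩

theorem isOfTypeP_im {M : Subgroup G} (h : Cfsg.IsOfTypeP M) : Cfsg.IsOfTypeP (im φ M) := by
  obtain ⟨W₁, U, W₂, h⟩ := h
  exact ⟨_, _, _, isTypePWith_im φ h⟩

theorem isTI_fittingOf_im {M : Subgroup G} (h : Cfsg.IsTISubset (Cfsg.fittingOf M : Set G)) :
    Cfsg.IsTISubset (Cfsg.fittingOf (im φ M) : Set G') := by
  rw [← im_fittingOf, coe_im]; exact isTISubset_image φ h

theorem isOfTypeII_im {M : Subgroup G} (h : Cfsg.IsOfTypeII M) : Cfsg.IsOfTypeII (im φ M) := by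
  obtain ⟨W₁, U, W₂, hP, h1, h2, h3, h4, h5, h6, h7⟩ := h
  refine ⟨_, _, _, isTypePWith_im φ hP, (im_ne_bot φ).2 h1, by rwa [im_card], isTI_fittingOf_im φ h3,
    im_isMulCommutative φ h4, ?_, ?_, ?_⟩
  · rwa [← im_normalizer_coe, im_le]
  · rw [← im_commutator]; exact isOfTypeF_equiv (imEquiv φ _) h6
  · rw [← im_commutator, ← im_fittingHallOf, ← im_fittingHallOf, h7]

theorem isOfTypeIII_im {M : Subgroup G} (h : Cfsg.IsOfTypeIII M) : Cfsg.IsOfTypeIII (im φ M) := by
  obtain ⟨W₁, U, W₂, hP, h1, h2, h3, h4, h5⟩ := h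
  refine ⟨_, _, _, isTypePWith_im φ hP, (im_ne_bot φ).2 h1, by rwa [im_card], isTI_fittingOf_im φ h3,
    im_isMulCommutative φ h4, ?_⟩
  rwa [← im_normalizer_coe, im_le]

theorem isOfTypeIV_im {M : Subgroup G} (h : Cfsg.IsOfTypeIV M) : Cfsg.IsOfTypeIV (im φ M) := by
  obtain ⟨W₁, U, W₂, hP, h1, h2, h3, h4, h5⟩ := h
  refine ⟨_, _, _, isTypePWith_im φ hP, (im_ne_bot φ).2 h1, by rwa [im_card], isTI_fittingOf_im φ h3,
    fun h => h4 ((im_isMulCommutative_iff φ).1 h), ?_⟩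
  rwa [← im_normalizer_coe, im_le]

theorem isOfTypeIII_im_iff {M : Subgroup G} : Cfsg.IsOfTypeIII (im φ M) ↔ Cfsg.IsOfTypeIII M :=
  ⟨fun h => by have := isOfTypeIII_im φ.symm h; rwa [im_symm_im] at this, isOfTypeIII_im φ⟩

theorem isOfTypeIV_im_iff {M : Subgroup G} : Cfsg.IsOfTypeIV (im φ M) ↔ Cfsg.IsOfTypeIV M :=
  ⟨fun h => by have := isOfTypeIV_im φ.symm h; rwa [im_symm_im] at this, isOfTypeIV_im φ⟩

theorem isOfTypeV_im {M : Subgroup G} (h : Cfsg.IsOfTypeV M) : Cfsg.IsOfTypeV (im φ M) := by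
  obtain ⟨W₁, U, W₂, hP, hU, hrest⟩ := h
  refine ⟨_, _, _, isTypePWith_im φ hP, by rw [hU]; exact Subgroup.map_bot _, ?_⟩
  rw [← im_fittingHallOf, im_card, im_card]
  rcases hrest with h1 | ⟨p, hp, hd, hdv, hcyc⟩ | ⟨p, hp, hd, hc, hdv, hcyc⟩
  · exact Or.inl (by rw [coe_im]; exact isTISubset_image φ h1)
  · refine Or.inr (Or.inl ⟨p, hp, hd, hdv, ?_⟩)
    rw [← Cfsg.Agent.Lib.Cores.map_pPrimeCore_equiv (imEquiv φ _)]
    exact im_isCyclic (imEquiv φ _) hcyc
  · refine Or.inr (Or.inr ⟨p, hp, hd, ?_, hdv, ?_⟩)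
    · rw [← Cfsg.Agent.Lib.Cores.map_pCore_equiv (imEquiv φ _)]
      exact (im_card (imEquiv φ _) _).trans hc
    · rw [← Cfsg.Agent.Lib.Cores.map_pPrimeCore_equiv (imEquiv φ _)]
      exact im_isCyclic (imEquiv φ _) hcyc

theorem im_typeCore (M : Subgroup G) : im φ (Cfsg.typeCore M) = Cfsg.typeCore (im φ M) := by
  classical
  unfold Cfsg.typeCore
  simp only [isOfTypeIII_im_iff, isOfTypeIV_im_iff]
  split_ifs
  · exact im_commutator φ M M
  · exact im_fittingHallOf φ M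

theorem mem_typeA1_im {M : Subgroup G} {x : G} :
    φ x ∈ Cfsg.typeA1 (im φ M) ↔ x ∈ Cfsg.typeA1 M := by
  simp only [Cfsg.typeA1, Set.mem_sdiff, SetLike.mem_coe, ← im_typeCore, mem_im, Set.mem_singleton_iff,
    map_eq_one_iff φ φ.injective]

theorem mem_typeA_im {M : Subgroup G} {x : G} : φ x ∈ Cfsg.Agent.Lib.OddOrder.TypeOne.typeA (im φ M) ↔ x ∈ Cfsg.Agent.Lib.OddOrder.TypeOne.typeA M := by
  classical
  unfold Cfsg.Agent.Lib.OddOrder.TypeOne.typeA
  have key : ∀ (D K : Subgroup G) (x : G),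
      φ x ∈ {a | a ∈ im φ D ∧ a ≠ 1 ∧ ∃ y ∈ im φ K, y ≠ 1 ∧ a * y = y * a} ↔
      x ∈ {a | a ∈ D ∧ a ≠ 1 ∧ ∃ y ∈ K, y ≠ 1 ∧ a * y = y * a} := by
    intro D K x
    simp only [Set.mem_ofPred_eq, mem_im, ne_eq, map_eq_one_iff φ φ.injective]
    refine and_congr_right fun _ => and_congr_right fun _ => ⟨?_, ?_⟩
    · rintro ⟨_, ⟨y, hy, rfl⟩, hy1, hc⟩
      exact ⟨y, hy, fun e => hy1 (by simp [e]), φ.injective (by simpa using hc)⟩
    · rintro ⟨y, hy, hy1, hc⟩
      exact ⟨φ y, (mem_im φ).2 hy, by simp [hy1], by rw [← map_mul, ← map_mul, hc]⟩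
  simp only [isOfTypeI_im_iff]
  split_ifs
  · rw [← im_fittingHallOf]; exact key M _ x
  · rw [← im_commutator, ← im_typeCore]; exact key _ _ x

theorem mem_typeA0_im {M : Subgroup G} {x : G} : φ x ∈ Cfsg.Agent.Lib.OddOrder.TypeOne.typeA0 (im φ M) ↔ x ∈ Cfsg.Agent.Lib.OddOrder.TypeOne.typeA0 M := by
  have key : ∀ {G G' : Type u} [Group G] [Group G'] (φ : G ≃* G') {M : Subgroup G} {x : G},
      x ∈ Cfsg.Agent.Lib.OddOrder.TypeOne.typeA0 M → φ x ∈ Cfsg.Agent.Lib.OddOrder.TypeOne.typeA0 (im φ M) := by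
    intro G G' _ _ φ M x hx
    rcases hx with hx | ⟨hI, W₁, U, W₂, hP, m, hm, w, hw, hw1, hw2, rfl⟩
    · exact Or.inl ((mem_typeA_im φ).2 hx)
    · refine Or.inr ⟨fun h => hI ((isOfTypeI_im_iff φ).1 h), _, _, _, isTypePWith_im φ hP,
        φ m, (mem_im φ).2 hm, φ w, ?_, ?_, ?_, by simp⟩
      · rw [← im_sup]; exact (mem_im φ).2 hw
      · rwa [mem_im]
      · rwa [mem_im]
  refine ⟨fun h => ?_, key φ⟩
  have := key φ.symm h
  rwa [im_symm_im, MulEquiv.symm_apply_apply] at this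

theorem im_isCoatom {M : Subgroup G} (h : IsCoatom M) : IsCoatom (im φ M) :=
  (φ.mapSubgroup.isCoatom_iff M).2 h

theorem supports_im {L M : Subgroup G} (h : Cfsg.Agent.Lib.OddOrder.TypeOne.Supports L M) : Cfsg.Agent.Lib.OddOrder.TypeOne.Supports (im φ L) (im φ M) := by
  obtain ⟨hL, x, hx, h1, h2⟩ := h
  refine ⟨im_isCoatom φ hL, φ x, (mem_typeA0_im φ).2 hx, ?_, ?_⟩
  · rwa [← im_centralizer_singleton, im_le]
  · rwa [← im_centralizer_singleton, im_le]

end Cfsg.Agent.Lib.OddOrder.PF8.Conj
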