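import Cfsg.Agent.Lib.OddOrder.TypeOne
import Cfsg.Agent.Lib.OddOrder.Interface.PF8
import Cfsg.Agent.Lib.OddOrder.PF8.Conj
import Cfsg.Agent.Lib.OddOrder.TypeP
import Cfsg.Agent.Lib.Coprime.Conjugacy

/-!
# Peterfalvi (8.5): bookkeeping for subgroups of type P
-/

set_option autoImplicit false

open scoped Pointwise commutatorElement

namespace Cfsg.Agent.Lib.OddOrder.PF8.TypeP

open Cfsg.Agent.Lib.OddOrder.Basic
open Cfsg.Agent.Lib.OddOrder.TypeP (derived_le U_le coprime_H_U)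
open Interface.PF8 (cyclicSet)

universe u

variable {G : Type u} [Group G] [Finite G]

theorem im_conj_self {M : Subgroup G} {m : G} (hm : m ∈ M) : Conj.im (MulAut.conj m) M = M := by
  ext y
  rw [Conj.mem_im', MulAut.conj_symm_apply]
  exact ⟨fun h => by simpa [mul_assoc] using mul_mem (mul_mem hm h) (inv_mem hm),
    fun h => mul_mem (mul_mem (inv_mem hm) h) hm⟩

theorem im_conj_mul (a b : G) (H : Subgroup G) :
    Conj.im (MulAut.conj a) (Conj.im (MulAut.conj b) H) = Conj.im (MulAut.conj (a * b)) H := by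
  rw [Conj.im, Conj.im, Subgroup.map_map]
  congr 1
  ext x; simp [mul_assoc]

theorem le_normalizer_derived (M : Subgroup G) : M ≤ Subgroup.normalizer ((⁅M, M⁆ : Subgroup G) : Set G) := fun m hm => by
  have h := Conj.im_commutator (MulAut.conj m) M M
  rw [im_conj_self hm] at h
  rw [Subgroup.mem_normalizer_iff]
  intro x
  rw [← Conj.mem_im (MulAut.conj m) (x := x), h, MulAut.conj_apply]

theorem card_W₁ {M W₁ U W₂ : Subgroup G} (hP : Cfsg.IsTypePWith M W₁ U W₂) :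
    Nat.card W₁ = ⁅M, M⁆.relIndex M :=
  (isComplIn_relIndex hP.W₁_compl).symm

theorem coprime_W₁ {M W₁ U W₂ : Subgroup G} (hP : Cfsg.IsTypePWith M W₁ U W₂) :
    (Nat.card W₁).Coprime (Nat.card ↥⁅M, M⁆) := by
  have h := hP.W₁_hall
  rwa [isComplIn_relIndex (isComplIn_symm hP.W₁_compl)] at h

/-- A `p`-element of `M` is conjugate into a Hall subgroup whose order `p` divides. -/
theorem conj_into_hall {M W : Subgroup G} (hW : W ≤ M) (hHall : (Nat.card W).Coprime (W.relIndex M))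
    {p : ℕ} [Fact p.Prime] (hp : p ∣ Nat.card W) {u : G} (hu : u ∈ M) {k : ℕ} (ho : orderOf u = p ^ k) :
    ∃ m ∈ M, m⁻¹ * u * m ∈ W := by
  obtain ⟨P⟩ : Nonempty (Sylow p (W.subgroupOf M : Subgroup M)) := inferInstance
  have hPcard : Nat.card ((P : Subgroup (W.subgroupOf M : Subgroup M)).map (W.subgroupOf M).subtype : Subgroup M) =
      p ^ (Nat.card M).factorization p := by
    rw [Subgroup.card_map_of_injective (Subgroup.subtype_injective _), P.card_eq_multiplicity,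
      Nat.card_congr (Subgroup.subgroupOfEquivOfLe hW).toEquiv]
    congr 1
    rw [← Subgroup.card_mul_index (W.subgroupOf M),
      Nat.card_congr (Subgroup.subgroupOfEquivOfLe hW).toEquiv,
      Nat.factorization_mul Nat.card_pos.ne' Subgroup.index_ne_zero_of_finite, Finsupp.add_apply,
      Nat.factorization_eq_zero_of_not_dvd (n := (W.subgroupOf M).index), add_zero]
    exact fun h => Nat.Prime.not_dvd_one (Fact.out : p.Prime) (hHall ▸ Nat.dvd_gcd hp h)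
  let Q : Sylow p M := Sylow.ofCard _ hPcard
  have hup : IsPGroup p (Subgroup.zpowers (⟨u, hu⟩ : M)) :=
    IsPGroup.of_card (n := k) (by rw [Nat.card_zpowers, ← ho, ← Subgroup.orderOf_coe])
  obtain ⟨R, hR⟩ := hup.exists_le_sylow
  obtain ⟨g, hg⟩ := MulAction.exists_smul_eq M Q R
  have h1 : (⟨u, hu⟩ : M) ∈ ((g • Q : Sylow p M) : Subgroup M) := by
    rw [hg]; exact hR (Subgroup.mem_zpowers _)
  rw [Sylow.coe_subgroup_smul, Subgroup.mem_pointwise_smul_iff_inv_smul_mem] at h1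
  obtain ⟨w, -, hw⟩ := h1
  refine ⟨g, g.2, ?_⟩
  have e : ((w : M) : G) = (g : G)⁻¹ * u * g := by
    have := congrArg Subtype.val hw
    simpa [MulAut.smul_def] using this
  rw [← e]
  exact w.2

theorem W₂_commute {M W₁ U W₂ : Subgroup G} (hP : Cfsg.IsTypePWith M W₁ U W₂) {w y : G}
    (hw : w ∈ W₁) (hy : y ∈ W₂) : w * y = y * w :=
  hP.selfNormalizing.2.2.2.1 w hw y hy

/-- A nontrivial `p`-element of `M`, `p` dividing `|W₁|`, centralises a nontrivial element of `M_F`. -/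
theorem exists_fixed {M W₁ U W₂ : Subgroup G} (hP : Cfsg.IsTypePWith M W₁ U W₂) {p : ℕ} [Fact p.Prime]
    (hp : p ∣ Nat.card W₁) {u : G} (hu : u ∈ M) {k : ℕ} (ho : orderOf u = p ^ k) :
    ∃ y ∈ Cfsg.fittingHallOf M, y ≠ 1 ∧ u * y = y * u := by
  obtain ⟨m, hm, hw⟩ := conj_into_hall hP.W₁_compl.2.1 hP.W₁_hall hp hu ho
  obtain ⟨y, hy, hy1⟩ := W₂.bot_or_exists_ne_one.resolve_left hP.selfNormalizing.2.1
  have hyH : y ∈ Cfsg.fittingHallOf M := (hP.W₂_le hy).1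
  refine ⟨m * y * m⁻¹, ((Subgroup.mem_normalizer_iff.1 (fittingHallOf_normal M hm)) y).1 hyH,
    by simpa using hy1, ?_⟩
  have h := W₂_commute hP hw hy
  calc u * (m * y * m⁻¹) = m * (m⁻¹ * u * m * y) * m⁻¹ := by group
    _ = m * (y * (m⁻¹ * u * m)) * m⁻¹ := by rw [h]
    _ = m * y * m⁻¹ * u := by group

theorem exists_order_eq_of_dvd_exponent {X : Type u} [Group X] [Finite X] {p : ℕ} [Fact p.Prime]
    (h : p ∣ Monoid.exponent X) : ∃ x : X, orderOf x = p :=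
  exists_prime_orderOf_dvd_card' p (h.trans Group.exponent_dvd_nat_card)

/-- A group of Frobenius type has no element of prime order `p ∤ |M_F|` such that all elements of
order `p` have fixed points on `M_F`. -/
theorem typeF_fixed_contra {X : Type u} [Group X] [Finite X] (h : Cfsg.IsOfTypeF X) {p : ℕ}
    [Fact p.Prime] (hpX : p ∣ Nat.card X) (hpH : ¬ p ∣ Nat.card (Cfsg.fittingHall X))
    (hfix : ∀ u : X, orderOf u = p → ∃ y ∈ Cfsg.fittingHall X, y ≠ 1 ∧ u * y = y * u) : False := by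
  obtain ⟨-, -, -, -, U, -, hc, -, U₀, -, hexp, hfpf⟩ := h
  have hpU : p ∣ Nat.card U := by
    rw [← hc.card_mul_card] at hpX
    exact ((Fact.out : p.Prime).dvd_mul.1 hpX).resolve_left hpH
  obtain ⟨v, hv⟩ := exists_prime_orderOf_dvd_card' (G := U) p hpU
  obtain ⟨u, hu⟩ := exists_order_eq_of_dvd_exponent (X := U₀) (p := p)
    (hexp ▸ hv ▸ Monoid.order_dvd_exponent v)
  have hu' : orderOf (u : X) = p := by rw [Subgroup.orderOf_coe, hu]
  obtain ⟨y, hy, hy1, hc'⟩ := hfix u hu'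
  refine hy1 (hfpf u u.2 (fun e => ?_) y hy hc')
  rw [e, orderOf_one] at hu'
  exact (Fact.out : p.Prime).ne_one hu'.symm

theorem not_typeI {M : Subgroup G} (h : Cfsg.IsOfTypeP M) : ¬ Cfsg.Agent.Lib.OddOrder.TypeOne.IsTypeI M := by
  obtain ⟨W₁, U, W₂, hP⟩ := h
  intro hI
  obtain ⟨p, hp, hpd⟩ := Nat.exists_prime_and_dvd
    (n := Nat.card W₁) (fun h => hP.W₁_ne (Subgroup.card_eq_one.1 h))
  have := Fact.mk hp
  have hHM : Cfsg.fittingHallOf M ≤ ⁅M, M⁆ := hP.U_compl.1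
  refine typeF_fixed_contra hI.1 (hpd.trans (Subgroup.card_dvd_of_le hP.W₁_compl.2.1)) (fun h => ?_)
    fun u hu => ?_
  · have h1 : p ∣ Nat.card (Cfsg.fittingHallOf M) := by
      rwa [Cfsg.fittingHallOf, Subgroup.card_map_of_injective (Subgroup.subtype_injective M)]
    exact hp.not_dvd_one ((coprime_W₁ hP) ▸ Nat.dvd_gcd hpd (h1.trans (Subgroup.card_dvd_of_le hHM)))
  · obtain ⟨y, ⟨z, hz, rfl⟩, hy1, hc⟩ := exists_fixed hP hpd u.2 (k := 1)
      (by rw [pow_one, Subgroup.orderOf_coe, hu])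
    exact ⟨z, hz, fun e => hy1 (by simp [e]), Subtype.ext hc⟩

theorem isOfTypeP_of {M : Subgroup G}
    (h : Cfsg.IsOfTypeII M ∨ Cfsg.IsOfTypeIII M ∨ Cfsg.IsOfTypeIV M ∨ Cfsg.IsOfTypeV M) :
    Cfsg.IsOfTypeP M := by
  rcases h with h | h | h | h <;> obtain ⟨W₁, U, W₂, hP, -⟩ := h <;> exact ⟨W₁, U, W₂, hP⟩

theorem data_conj {M W₁ U W₂ W₁' U' W₂' : Subgroup G} (h : Cfsg.IsTypePWith M W₁ U W₂)
    (h' : Cfsg.IsTypePWith M W₁' U' W₂') :
    ∃ m ∈ M, W₁' = W₁.map (MulAut.conj m).toMonoidHom ∧ U' = U.map (MulAut.conj m).toMonoidHom ∧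
      W₂' = W₂.map (MulAut.conj m).toMonoidHom := by
  have : Group.IsNilpotent U := h.U_nilpotent
  have hDM : ⁅M, M⁆ ≤ M := derived_le M
  obtain ⟨k, hk, hkU⟩ := Coprime.exists_conj_eq_of_coprime (A := U) (B := U') (K := Cfsg.fittingHallOf M)
    ((U_le h).trans (fittingHallOf_normal M)) (coprime_H_U h).symm (Or.inl inferInstance)
    (by rw [sup_comm, isComplIn_sup h.U_compl]; exact h'.U_compl.2.1)
    (by rw [← isComplIn_relIndex h.U_compl, ← isComplIn_relIndex h'.U_compl])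
  have hkU' : Conj.im (MulAut.conj k) U = U' := hkU
  have hkM : k ∈ M := fittingHallOf_le M hk
  have hP₁ : Cfsg.IsTypePWith M (Conj.im (MulAut.conj k) W₁) U' (Conj.im (MulAut.conj k) W₂) := by
    have := Conj.isTypePWith_im (MulAut.conj k) h
    rwa [im_conj_self hkM, hkU'] at this
  set A := Conj.im (MulAut.conj k) W₁ with hAdef
  set K := ⁅M, M⁆ ⊓ Subgroup.normalizer (U' : Set G) with hKdef
  have hAK : A ≤ Subgroup.normalizer (K : Set G) := by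
    intro a ha
    rw [Subgroup.mem_normalizer_iff]
    intro x
    have h1 := Subgroup.mem_normalizer_iff.1 (le_normalizer_derived M (hP₁.W₁_compl.2.1 ha)) x
    have haN := hP₁.U_normal ha
    rw [hKdef, Subgroup.mem_inf, Subgroup.mem_inf, h1]
    refine and_congr_right fun _ => ⟨fun hx => mul_mem (mul_mem haN hx) (inv_mem haN), fun hx => ?_⟩
    simpa [mul_assoc] using mul_mem (mul_mem (inv_mem haN) hx) haN
  have := hP₁.W₁_cyclic
  letI : CommGroup A := IsCyclic.commGroup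
  have hA : Group.IsSolvable A := inferInstance
  obtain ⟨l, hl, hlW⟩ := Coprime.exists_conj_eq_of_coprime (A := A) (B := W₁') (K := K) hAK
    ((coprime_W₁ hP₁).coprime_dvd_right (Subgroup.card_dvd_of_le inf_le_left)) (Or.inl hA)
    (fun w hw => by
      obtain ⟨d, hd, a, ha, e⟩ := hP₁.W₁_compl.2.2.2 w (h'.W₁_compl.2.1 hw)
      subst e
      refine mul_mem (Subgroup.mem_sup_right ⟨hd, ?_⟩) (Subgroup.mem_sup_left ha)
      simpa using mul_mem (h'.U_normal hw) (inv_mem (hP₁.U_normal ha)))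
    (by rw [card_W₁ h', card_W₁ hP₁])
  have hlM : l ∈ M := hDM hl.1
  have hlW' : Conj.im (MulAut.conj l) A = W₁' := hlW
  have hlU : Conj.im (MulAut.conj l) U' = U' := by
    ext y
    rw [Conj.mem_im', MulAut.conj_symm_apply]
    have := Subgroup.mem_normalizer_iff'.1 hl.2 (l⁻¹ * y)
    have h2 : l⁻¹ * y * l ∈ U' ↔ y ∈ U' := by
      rw [this]; simp [mul_assoc]
    exact h2
  refine ⟨l * k, mul_mem hlM hkM, ?_, ?_, ?_⟩
  · change W₁' = Conj.im _ W₁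
    rw [← im_conj_mul, hlW']
  · change U' = Conj.im _ U
    rw [← im_conj_mul, hkU', hlU]
  · change W₂' = Conj.im _ W₂
    have hP₂ := Conj.isTypePWith_im (MulAut.conj l) hP₁
    rw [im_conj_self hlM, hlW', im_conj_mul] at hP₂
    obtain ⟨x, hx, hx1⟩ := W₁'.bot_or_exists_ne_one.resolve_left h'.W₁_ne
    rw [← h'.W₂_centralizer x hx hx1, hP₂.W₂_centralizer x hx hx1]

theorem normalizer_im_le {M U : Subgroup G} {m : G} (hm : m ∈ M) :
    Subgroup.normalizer ((U.map (MulAut.conj m).toMonoidHom : Subgroup G) : Set G) ≤ M ↔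
      Subgroup.normalizer (U : Set G) ≤ M := by
  change Subgroup.normalizer ((Conj.im (MulAut.conj m) U : Subgroup G) : Set G) ≤ M ↔ _
  conv_lhs => rw [← Conj.im_normalizer_coe, ← im_conj_self hm, Conj.im_le]

theorem comm_im {U : Subgroup G} {m : G} :
    IsMulCommutative ↥(U.map (MulAut.conj m).toMonoidHom) ↔ IsMulCommutative U :=
  Conj.im_isMulCommutative_iff (MulAut.conj m)

theorem ne_bot_im {U : Subgroup G} {m : G} : U.map (MulAut.conj m).toMonoidHom ≠ ⊥ ↔ U ≠ ⊥ :=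
  Conj.im_ne_bot (MulAut.conj m)

theorem II_facts {M W₁ U W₂ : Subgroup G} (hP : Cfsg.IsTypePWith M W₁ U W₂) (h : Cfsg.IsOfTypeII M) :
    U ≠ ⊥ ∧ (Nat.card W₁).Prime ∧ Cfsg.IsTISubset (Cfsg.fittingOf M : Set G) ∧
      IsMulCommutative U ∧ ¬ Subgroup.normalizer (U : Set G) ≤ M ∧
      Cfsg.IsOfTypeF ↥⁅M, M⁆ ∧ Cfsg.fittingHallOf ⁅M, M⁆ = Cfsg.fittingHallOf M := by
  obtain ⟨W₁', U', W₂', hP', h1, h2, h3, h4, h5, h6, h7⟩ := h
  obtain ⟨m, hm, e1, e2, -⟩ := data_conj hP hP'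
  subst e1 e2
  exact ⟨ne_bot_im.1 h1, Conj.im_card (MulAut.conj m) W₁ ▸ h2, h3, comm_im.1 h4,
    fun h => h5 ((normalizer_im_le hm).2 h), h6, h7⟩

theorem III_facts {M W₁ U W₂ : Subgroup G} (hP : Cfsg.IsTypePWith M W₁ U W₂) (h : Cfsg.IsOfTypeIII M) :
    U ≠ ⊥ ∧ (Nat.card W₁).Prime ∧ Cfsg.IsTISubset (Cfsg.fittingOf M : Set G) ∧
      IsMulCommutative U ∧ Subgroup.normalizer (U : Set G) ≤ M := by
  obtain ⟨W₁', U', W₂', hP', h1, h2, h3, h4, h5⟩ := h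
  obtain ⟨m, hm, e1, e2, -⟩ := data_conj hP hP'
  subst e1 e2
  exact ⟨ne_bot_im.1 h1, Conj.im_card (MulAut.conj m) W₁ ▸ h2, h3, comm_im.1 h4, (normalizer_im_le hm).1 h5⟩

theorem IV_facts {M W₁ U W₂ : Subgroup G} (hP : Cfsg.IsTypePWith M W₁ U W₂) (h : Cfsg.IsOfTypeIV M) :
    U ≠ ⊥ ∧ (Nat.card W₁).Prime ∧ Cfsg.IsTISubset (Cfsg.fittingOf M : Set G) ∧
      ¬ IsMulCommutative U ∧ Subgroup.normalizer (U : Set G) ≤ M := by
  obtain ⟨W₁', U', W₂', hP', h1, h2, h3, h4, h5⟩ := h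
  obtain ⟨m, hm, e1, e2, -⟩ := data_conj hP hP'
  subst e1 e2
  exact ⟨ne_bot_im.1 h1, Conj.im_card (MulAut.conj m) W₁ ▸ h2, h3, fun h => h4 (comm_im.2 h),
    (normalizer_im_le hm).1 h5⟩

theorem V_facts {M W₁ U W₂ : Subgroup G} (hP : Cfsg.IsTypePWith M W₁ U W₂) (h : Cfsg.IsOfTypeV M) :
    U = ⊥ ∧ Cfsg.fittingHallOf M = ⁅M, M⁆ := by
  obtain ⟨W₁', U', W₂', hP', h1, -⟩ := h
  obtain ⟨m, hm, -, e2, -⟩ := data_conj hP hP'
  subst e2
  have hU : U = ⊥ := by by_contra hne; exact (ne_bot_im.2 hne) h1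
  refine ⟨hU, ?_⟩
  have := isComplIn_sup hP.U_compl
  rwa [hU, sup_bot_eq] at this

theorem typeA0_eq {M W₁ U W₂ : Subgroup G} (hP : Cfsg.IsTypePWith M W₁ U W₂) :
    Cfsg.Agent.Lib.OddOrder.TypeOne.typeA0 M = Cfsg.Agent.Lib.OddOrder.TypeOne.typeA M ∪ {v | ∃ m ∈ M, ∃ w ∈ cyclicSet G W₁ W₂, v = m * w * m⁻¹} := by
  unfold Cfsg.Agent.Lib.OddOrder.TypeOne.typeA0
  congr 1
  ext v
  constructor
  · rintro ⟨-, W₁', U', W₂', hP', m, hm, w, hw, hw1, hw2, rfl⟩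
    obtain ⟨m₀, hm₀, rfl, -, rfl⟩ := data_conj hP hP'
    rw [← Subgroup.map_sup] at hw
    obtain ⟨z, hz, rfl⟩ := hw
    refine ⟨m * m₀, mul_mem hm hm₀, z,
      ⟨hz, fun h => hw1 ⟨z, h, rfl⟩, fun h => hw2 ⟨z, h, rfl⟩⟩, ?_⟩
    simp [mul_assoc]
  · rintro ⟨m, hm, w, ⟨hw, hw1, hw2⟩, rfl⟩
    exact ⟨not_typeI ⟨_, _, _, hP⟩, W₁, U, W₂, hP, m, hm, w, hw, hw1, hw2, rfl⟩

theorem typeCore_bounds {M W₁ U W₂ : Subgroup G} (hP : Cfsg.IsTypePWith M W₁ U W₂) :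
    Cfsg.fittingHallOf M ≤ Cfsg.typeCore M ∧ Cfsg.typeCore M ≤ ⁅M, M⁆ := by
  unfold Cfsg.typeCore
  split_ifs
  · exact ⟨hP.U_compl.1, le_rfl⟩
  · exact ⟨le_rfl, hP.U_compl.1⟩

theorem step_8_5 : Interface.PF8.Step_8_5 G where
  not_typeI M h := not_typeI h
  data_conj _ _ _ _ _ _ _ _ h h' := data_conj h h'
  typeII M _ W₁ U W₂ hP h := by
    obtain ⟨h1, h2, h3, h4, h5, h6, h7⟩ := II_facts hP h
    have n3 : ¬ Cfsg.IsOfTypeIII M := fun k => h5 (III_facts hP k).2.2.2.2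
    have n4 : ¬ Cfsg.IsOfTypeIV M := fun k => h5 (IV_facts hP k).2.2.2.2
    exact ⟨h1, h2, h3, h4, h5, h6, h7, n3, n4, fun k => h1 (V_facts hP k).1,
      if_neg (not_or.2 ⟨n3, n4⟩)⟩
  typeIII M _ W₁ U W₂ hP h := by
    obtain ⟨h1, h2, h3, h4, h5⟩ := III_facts hP h
    exact ⟨h1, h2, h3, h4, h5, fun k => (II_facts hP k).2.2.2.2.1 h5,
      fun k => (IV_facts hP k).2.2.2.1 h4, fun k => h1 (V_facts hP k).1, if_pos (Or.inl h)⟩
  typeIV M _ W₁ U W₂ hP h := by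
    obtain ⟨h1, h2, h3, h4, h5⟩ := IV_facts hP h
    exact ⟨h1, h2, h3, h4, h5, fun k => (II_facts hP k).2.2.2.2.1 h5,
      fun k => h4 (III_facts hP k).2.2.2.1, fun k => h1 (V_facts hP k).1, if_pos (Or.inr h)⟩
  typeV M _ W₁ U W₂ hP h := by
    obtain ⟨h1, h2⟩ := V_facts hP h
    have n3 : ¬ Cfsg.IsOfTypeIII M := fun k => (III_facts hP k).1 h1
    have n4 : ¬ Cfsg.IsOfTypeIV M := fun k => (IV_facts hP k).1 h1
    exact ⟨h1, fun k => (II_facts hP k).1 h1, n3, n4, h2, (if_neg (not_or.2 ⟨n3, n4⟩)).trans h2⟩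
  typeA0_eq _ _ _ _ _ hP := typeA0_eq hP
  typeA_le M _ W₁ U W₂ hP :=
    ⟨(typeCore_bounds hP).1, (typeCore_bounds hP).2, fittingHallOf_isNilpotent M,
      if_neg (not_typeI ⟨_, _, _, hP⟩)⟩

end Cfsg.Agent.Lib.OddOrder.PF8.TypeP
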