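import Cfsg.Agent.Lib.OddOrder.TypeOne
import Cfsg.Agent.Lib.OddOrder.PF8.TypeP
import Cfsg.Agent.Lib.OddOrder.MinSimple
import Cfsg.Agent.Lib.Isometry.TI

/-!
# Peterfalvi (8.15), (8.16): the Dade hypothesis and Type II
-/

set_option autoImplicit false

open scoped Pointwise commutatorElement

namespace Cfsg.Agent.Lib.OddOrder.PF8.Dade

open Cfsg.Agent.Lib.OddOrder.Basic
open Cfsg.Agent.Lib.OddOrder.TypeP (derived_le)
open Interface.PF8 (BG16 IsSupportSet)

universe u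

variable {G : Type u} [Group G] [Finite G] {M : Subgroup G}

theorem typeI_or_P (hB : BG16 G) (hM : IsCoatom M) : Cfsg.Agent.Lib.OddOrder.TypeOne.IsTypeI M ∨ Cfsg.IsOfTypeP M :=
  (hB.types M hM).imp_right TypeP.isOfTypeP_of

theorem fittingHallOf_le_typeCore (hB : BG16 G) (hM : IsCoatom M) :
    Cfsg.fittingHallOf M ≤ Cfsg.typeCore M := by
  rcases typeI_or_P hB hM with h | ⟨W₁, U, W₂, hP⟩
  · rw [Cfsg.typeCore, if_neg]
    rintro (k | k)
    · exact TypeP.not_typeI (TypeP.isOfTypeP_of (Or.inr (Or.inl k))) h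
    · exact TypeP.not_typeI (TypeP.isOfTypeP_of (Or.inr (Or.inr (Or.inl k)))) h
  · exact (TypeP.typeCore_bounds hP).1

theorem typeCore_le (M : Subgroup G) : Cfsg.typeCore M ≤ M := by
  unfold Cfsg.typeCore
  split_ifs
  · exact derived_le M
  · exact fittingHallOf_le M

theorem typeCore_normal (M : Subgroup G) : M ≤ Subgroup.normalizer (Cfsg.typeCore M : Set G) := by
  unfold Cfsg.typeCore
  split_ifs
  · exact TypeP.le_normalizer_derived M
  · exact fittingHallOf_normal M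

theorem fittingHallOf_ne_bot (hB : BG16 G) (hM : IsCoatom M) : Cfsg.fittingHallOf M ≠ ⊥ := by
  rcases typeI_or_P hB hM with h | ⟨W₁, U, W₂, hP⟩
  · rw [Cfsg.fittingHallOf, Ne, Subgroup.map_eq_bot_iff_of_injective _ (Subgroup.subtype_injective M)]
    exact h.1.2.2.1
  · intro h
    apply hP.H_not_cyclic
    rw [h]; infer_instance

theorem typeA1_nonempty (hB : BG16 G) (hM : IsCoatom M) : (Cfsg.typeA1 M).Nonempty := by
  obtain ⟨x, hx, hx1⟩ := (Cfsg.fittingHallOf M).bot_or_exists_ne_one.resolve_left (fittingHallOf_ne_bot hB hM)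
  exact ⟨x, fittingHallOf_le_typeCore hB hM hx, hx1⟩

theorem typeA1_subset (hB : BG16 G) (hM : IsCoatom M) : Cfsg.typeA1 M ⊆ Cfsg.Agent.Lib.OddOrder.TypeOne.typeA M := by
  rintro x ⟨hx, hx1⟩
  rw [Set.mem_singleton_iff] at hx1
  rcases typeI_or_P hB hM with h | ⟨W₁, U, W₂, hP⟩
  · rw [Cfsg.Agent.Lib.OddOrder.TypeOne.typeA, if_pos h]
    have hc : Cfsg.typeCore M = Cfsg.fittingHallOf M := by
      rw [Cfsg.typeCore, if_neg]
      rintro (k | k)
      · exact TypeP.not_typeI (TypeP.isOfTypeP_of (Or.inr (Or.inl k))) h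
      · exact TypeP.not_typeI (TypeP.isOfTypeP_of (Or.inr (Or.inr (Or.inl k)))) h
    rw [hc] at hx
    exact ⟨fittingHallOf_le M hx, hx1, x, hx, hx1, rfl⟩
  · rw [Cfsg.Agent.Lib.OddOrder.TypeOne.typeA, if_neg (TypeP.not_typeI ⟨_, _, _, hP⟩)]
    exact ⟨(TypeP.typeCore_bounds hP).2 hx, hx1, x, hx, hx1, rfl⟩

theorem typeA_subset_typeA0 (M : Subgroup G) : Cfsg.Agent.Lib.OddOrder.TypeOne.typeA M ⊆ Cfsg.Agent.Lib.OddOrder.TypeOne.typeA0 M := Set.subset_union_left

theorem subset_typeA0 (hB : BG16 G) (hM : IsCoatom M) {A : Set G} (hA : IsSupportSet G M A) :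
    A ⊆ Cfsg.Agent.Lib.OddOrder.TypeOne.typeA0 M := by
  rcases hA with rfl | rfl | rfl
  · exact (typeA1_subset hB hM).trans (typeA_subset_typeA0 M)
  · exact typeA_subset_typeA0 M
  · exact subset_rfl

theorem typeA1_subset_of (hB : BG16 G) (hM : IsCoatom M) {A : Set G} (hA : IsSupportSet G M A) :
    Cfsg.typeA1 M ⊆ A := by
  rcases hA with rfl | rfl | rfl
  · exact subset_rfl
  · exact typeA1_subset hB hM
  · exact (typeA1_subset hB hM).trans (typeA_subset_typeA0 M)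

theorem typeA_facts (M : Subgroup G) {a : G} (ha : a ∈ Cfsg.Agent.Lib.OddOrder.TypeOne.typeA M) : a ∈ M ∧ a ≠ 1 := by
  unfold Cfsg.Agent.Lib.OddOrder.TypeOne.typeA at ha
  split_ifs at ha
  · exact ⟨ha.1, ha.2.1⟩
  · exact ⟨derived_le M ha.1, ha.2.1⟩

theorem typeA0_facts (M : Subgroup G) {a : G} (ha : a ∈ Cfsg.Agent.Lib.OddOrder.TypeOne.typeA0 M) : a ∈ M ∧ a ≠ 1 := by
  rcases ha with ha | ⟨-, W₁, U, W₂, hP, m, hm, w, hw, hw1, hw2, rfl⟩
  · exact typeA_facts M ha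
  · have hwM : w ∈ M := (sup_le hP.W₁_compl.2.1
      (hP.W₂_le.trans (inf_le_left.trans (fittingHallOf_le M)))) hw
    refine ⟨mul_mem (mul_mem hm hwM) (inv_mem hm), fun e => hw1 ?_⟩
    rw [show w = 1 by simpa using e]
    exact one_mem _

theorem conj_mem_set (M : Subgroup G) {A : Set G} (hA : IsSupportSet G M A) {m : G} (hm : m ∈ M)
    {a : G} (ha : a ∈ A) : m * a * m⁻¹ ∈ A := by
  have e := TypeP.im_conj_self hm
  rcases hA with rfl | rfl | rfl
  · have h : MulAut.conj m a ∈ Cfsg.typeA1 (Conj.im (MulAut.conj m) M) := (Conj.mem_typeA1_im _).2 ha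
    rwa [e] at h
  · have h : MulAut.conj m a ∈ Cfsg.Agent.Lib.OddOrder.TypeOne.typeA (Conj.im (MulAut.conj m) M) := (Conj.mem_typeA_im _).2 ha
    rwa [e] at h
  · have h : MulAut.conj m a ∈ Cfsg.Agent.Lib.OddOrder.TypeOne.typeA0 (Conj.im (MulAut.conj m) M) := (Conj.mem_typeA0_im _).2 ha
    rwa [e] at h

theorem normalizer_eq (hG : Cfsg.IsMinSimpleOddOrder G) (hM : IsCoatom M) {A : Set G}
    (hne : A.Nonempty) (hsub : A ⊆ M) (h1 : ∀ a ∈ A, a ≠ 1) (hconj : M ≤ Subgroup.normalizer A) :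
    Subgroup.normalizer A = M := by
  by_contra h
  have htop := hM.2 _ (lt_of_le_of_ne hconj (Ne.symm h))
  have hN : (Subgroup.closure A).Normal := by
    refine ⟨fun n hn g => ?_⟩
    induction hn using Subgroup.closure_induction with
    | mem a ha =>
      exact Subgroup.subset_closure
        (((Subgroup.mem_set_normalizer_iff.1 (htop.symm ▸ Subgroup.mem_top g)) a).1 ha)
    | one => simp
    | mul a b _ _ iha ihb => simpa [mul_assoc] using mul_mem iha ihb
    | inv a _ iha => simpa [mul_assoc] using inv_mem iha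
  obtain ⟨a, ha⟩ := hne
  rcases MinSimple.eq_bot_or_top hG hN with hb | ht
  · have hm := Subgroup.subset_closure (k := A) ha
    rw [hb] at hm
    exact h1 a ha hm
  · exact hM.1 (top_le_iff.1 (ht ▸ (Subgroup.closure_le M).2 hsub))

/-- The maximal subgroup over `C_G(x)` and the value of `R(x)`. -/
theorem supportR_spec (hB : BG16 G) (hM : IsCoatom M) {x : G} (hx : x ∈ Cfsg.Agent.Lib.OddOrder.TypeOne.typeA0 M)
    (hxM : ¬ Subgroup.centralizer ({x} : Set G) ≤ M) :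
    ∃ L : Subgroup G, IsCoatom L ∧ Subgroup.centralizer ({x} : Set G) ≤ L ∧
      (∀ L' : Subgroup G, IsCoatom L' → Subgroup.centralizer ({x} : Set G) ≤ L' → L' = L) ∧
      Cfsg.supportR M x = Cfsg.fittingHallOf L ⊓ Subgroup.centralizer ({x} : Set G) := by
  have hu : ∃! L : Subgroup G, IsCoatom L ∧ Subgroup.centralizer ({x} : Set G) ≤ L :=
    ((hB.embed M hM _ (Or.inr rfl)).2.1 x hx hxM).2
  refine ⟨Classical.choose hu.exists, (Classical.choose_spec hu.exists).1,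
    (Classical.choose_spec hu.exists).2, fun L' h1 h2 => hu.unique ⟨h1, h2⟩ (Classical.choose_spec hu.exists), ?_⟩
  rw [Cfsg.supportR, dif_pos ⟨hxM, hu⟩]

theorem supportR_eq_bot {x : G} (hxM : Subgroup.centralizer ({x} : Set G) ≤ M) :
    Cfsg.supportR M x = ⊥ := by
  rw [Cfsg.supportR, dif_neg fun h => h.1 hxM]

theorem step_8_15 (hG : Cfsg.IsMinSimpleOddOrder G) (hB : BG16 G) : Interface.PF8.Step_8_15 G := by
  intro M hM A hA
  have hsub0 := subset_typeA0 hB hM hA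
  have hsub1 := typeA1_subset_of hB hM hA
  obtain ⟨hfus, huniq, hemb⟩ := hB.embed M hM _ (Or.inr rfl)
  have hconj : ∀ m ∈ M, ∀ a ∈ A, m * a * m⁻¹ ∈ A := fun m hm a ha => conj_mem_set M hA hm ha
  refine ⟨normalizer_eq hG hM ((typeA1_nonempty hB hM).mono hsub1)
    (fun a ha => (typeA0_facts M (hsub0 ha)).1) (fun a ha => (typeA0_facts M (hsub0 ha)).2)
    (fun m hm => Cfsg.Agent.Lib.Isometry.TI.mem_normalizer_of_mapsTo (hconj m hm)), ?_⟩
  have hcase : ∀ a ∈ A, (Subgroup.centralizer ({a} : Set G) ≤ M ∧ Cfsg.supportR M a = ⊥) ∨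
      (¬ Subgroup.centralizer ({a} : Set G) ≤ M ∧ ∃ L, IsCoatom L ∧ Subgroup.centralizer ({a} : Set G) ≤ L ∧
        Cfsg.supportR M a = Cfsg.fittingHallOf L ⊓ Subgroup.centralizer ({a} : Set G)) := by
    intro a ha
    by_cases h : Subgroup.centralizer ({a} : Set G) ≤ M
    · exact Or.inl ⟨h, supportR_eq_bot h⟩
    · obtain ⟨L, h1, h2, -, h3⟩ := supportR_spec hB hM (hsub0 ha) h
      exact Or.inr ⟨h, L, h1, h2, h3⟩
  exact {
    one_not_mem := fun h => (typeA0_facts M (hsub0 h)).2 rfl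
    subset := fun a ha => (typeA0_facts M (hsub0 ha)).1
    conj_mem := hconj
    fusion := fun a ha g hg => hfus a (hsub0 ha) g (hsub0 hg)
    le_centralizer := fun a ha => by
      rcases hcase a ha with ⟨-, e⟩ | ⟨-, L, -, -, e⟩ <;> rw [e]
      · exact bot_le
      · exact inf_le_right
    conj_mem_H := fun a ha c hc u hu => by
      rcases hcase a ha with ⟨-, e⟩ | ⟨h, L, hL, hcL, e⟩ <;> rw [e] at hu ⊢
      · rw [Subgroup.mem_bot] at hu ⊢; rw [hu]; group
      · exact ((Subgroup.mem_normalizer_iff.1 ((hemb a (hsub0 ha) h L hL hcL).2.1 hc)) u).1 hu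
    inf_eq_bot := fun a ha => by
      rcases hcase a ha with ⟨-, e⟩ | ⟨h, L, hL, hcL, e⟩ <;> rw [e]
      · exact bot_inf_eq _
      · exact (hemb a (hsub0 ha) h L hL hcL).2.2.1.2.2.1
    sup_eq := fun a ha => by
      rcases hcase a ha with ⟨h, e⟩ | ⟨h, L, hL, hcL, e⟩ <;> rw [e]
      · rw [bot_sup_eq]; exact inf_eq_right.2 h
      · exact isComplIn_sup (hemb a (hsub0 ha) h L hL hcL).2.2.1
    coprime := fun a ha b hb => by
      rcases hcase a ha with ⟨-, e⟩ | ⟨h, L, hL, hcL, e⟩ <;> rw [e]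
      · simp
      · exact ((hemb a (hsub0 ha) h L hL hcL).2.2.2.1 b (hsub0 hb)).coprime_dvd_left
          (Subgroup.card_dvd_of_le inf_le_left) }

theorem step_8_16 (hG : Cfsg.IsMinSimpleOddOrder G) (hB : BG16 G) : Interface.PF8.Step_8_16 G := by
  intro M hM hII
  obtain ⟨W₁, U, W₂, hP⟩ := TypeP.isOfTypeP_of (Or.inl hII)
  obtain ⟨-, -, hTI, -, -, -, -, -, -, -, hcore⟩ := TypeP.step_8_5.typeII M hM W₁ U W₂ hP hII
  have hNF : Subgroup.normalizer (Cfsg.fittingOf M : Set G) = M :=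
    MinSimple.normalizer_eq_of_coatom hG hM (Subgroup.map_subtype_le _) (MinSimple.fittingOf_ne_bot hG hM)
      (fittingOf_normal M)
  have hC : ∀ x ∈ Cfsg.Agent.Lib.OddOrder.TypeOne.typeA0 M, Subgroup.centralizer ({x} : Set G) ≤ M := by
    intro x hx
    by_contra hn
    obtain ⟨hx1, -⟩ := (hB.embed M hM _ (Or.inr rfl)).2.1 x hx hn
    obtain ⟨hxc, hxne⟩ := hx1
    rw [hcore] at hxc
    apply hn
    intro c hc
    by_contra hcM
    rw [← hNF] at hcM
    refine hxne (hTI c hcM x (fittingHallOf_le_fittingOf M hxc) ?_)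
    rw [Cfsg.Agent.Lib.Isometry.TI.conj_eq_self hc]
    exact fittingHallOf_le_fittingOf M hxc
  have key : ∀ A : Set G, IsSupportSet G M A → Cfsg.IsTISubset A ∧ Subgroup.normalizer A = M := by
    intro A hA
    obtain ⟨hN, hD⟩ := step_8_15 hG hB M hM A hA
    refine ⟨fun g hg a ha hga => absurd ?_ hg, hN⟩
    obtain ⟨m, hm, e⟩ := hD.fusion a ha g hga
    rw [hN]
    have hc : m⁻¹ * g ∈ Subgroup.centralizer ({a} : Set G) := by
      refine Cfsg.Agent.Lib.Isometry.TI.mem_centralizer_of_conj_eq ?_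
      calc m⁻¹ * g * a * (m⁻¹ * g)⁻¹ = m⁻¹ * (g * a * g⁻¹) * m := by group
        _ = m⁻¹ * (m * a * m⁻¹) * m := by rw [e]
        _ = a := by group
    have := mul_mem hm (hC a (subset_typeA0 hB hM hA ha) hc)
    rwa [mul_inv_cancel_left] at this
  exact ⟨key _ (Or.inr (Or.inr rfl)), key _ (Or.inr (Or.inl rfl)), key _ (Or.inl rfl),
    fun x hx => supportR_eq_bot (hC x hx)⟩

end Cfsg.Agent.Lib.OddOrder.PF8.Dade
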