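import Cfsg.Agent.Lib.OddOrder.TypeOne
import Cfsg.Agent.Lib.OddOrder.PF8.Dade
import Cfsg.Agent.S1378

/-!
# Peterfalvi (8.17): supporting subgroups
-/

set_option autoImplicit false

open scoped Pointwise commutatorElement

namespace Cfsg.Agent.Lib.OddOrder.PF8.Supports

open Cfsg.Agent.Lib.OddOrder.Basic
open Cfsg.Agent.Lib.OddOrder.TypeP (derived_le)
open Interface.PF8 (BG16 IsSupportSet)

universe u

variable {G : Type u} [Group G] [Finite G]

theorem im_inv_im (g : G) (M : Subgroup G) :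
    Conj.im (MulAut.conj g⁻¹) (Conj.im (MulAut.conj g) M) = M := by
  rw [TypeP.im_conj_mul, inv_mul_cancel, TypeP.im_conj_self (one_mem M)]

theorem prime_mem_sigma (hB : BG16 G) {M : Subgroup G} (hM : IsCoatom M) {p : ℕ} (hp : p.Prime)
    (hd : p ∣ Nat.card (Cfsg.typeCore M)) : p ∈ Cfsg.sigma M := by
  rw [hB.core_eq M hM, Cfsg.sigmaCore, Subgroup.card_map_of_injective (Subgroup.subtype_injective M)] at hd
  exact Cores.piCore_isPiGroup (G := M) (Cfsg.sigma M) p hp hd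

theorem conj_of_common (hG : Cfsg.IsMinSimpleOddOrder G) (hB : BG16 G) {M N : Subgroup G} (hM : IsCoatom M)
    (hN : IsCoatom N) {p : ℕ} (hp : p.Prime) (hdM : p ∣ Nat.card (Cfsg.typeCore M))
    (hdN : p ∣ Nat.card (Cfsg.typeCore N)) : ∃ g : G, N.map (MulAut.conj g).toMonoidHom = M := by
  obtain ⟨g, hg⟩ := (S1378.result hG).2 M N hM hN
    ⟨p, prime_mem_sigma hB hM hp hdM, prime_mem_sigma hB hN hp hdN⟩
  refine ⟨g⁻¹, ?_⟩
  rw [hg]
  exact im_inv_im g M

theorem core_coprime (hG : Cfsg.IsMinSimpleOddOrder G) (hB : BG16 G) {M N : Subgroup G} (hM : IsCoatom M)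
    (hN : IsCoatom N) (hnc : ∀ g : G, N.map (MulAut.conj g).toMonoidHom ≠ M) :
    (Nat.card (Cfsg.typeCore M)).Coprime (Nat.card (Cfsg.typeCore N)) :=
  Nat.coprime_of_dvd fun _ hp h1 h2 => by
    obtain ⟨g, hg⟩ := conj_of_common hG hB hM hN hp h1 h2
    exact hnc g hg

theorem eq_one_of_coprime {x : G} {a b : ℕ} (hc : a.Coprime b) (h1 : orderOf x ∣ a) (h2 : orderOf x ∣ b) :
    x = 1 :=
  orderOf_eq_one_iff.1 (Nat.eq_one_of_dvd_coprimes hc h1 h2)

theorem orderOf_conj' (y z : G) : orderOf (y * z * y⁻¹) = orderOf z :=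
  orderOf_injective (MulAut.conj y).toMonoidHom (MulAut.conj y).injective z

/-- A power of an element of `A(T)` is in `A(T)` unless trivial. -/
theorem pow_mem_typeA {T : Subgroup G} {b : G} (hb : b ∈ Cfsg.Agent.Lib.OddOrder.TypeOne.typeA T) {k : ℕ} (hk : b ^ k ≠ 1) :
    b ^ k ∈ Cfsg.Agent.Lib.OddOrder.TypeOne.typeA T := by
  unfold Cfsg.Agent.Lib.OddOrder.TypeOne.typeA at hb ⊢
  split_ifs at hb ⊢ <;> obtain ⟨h1, -, z, hz, hz1, hc⟩ := hb <;>
    exact ⟨pow_mem h1 k, hk, z, hz, hz1, (Commute.pow_left hc k).eq⟩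

/-- For `x ∈ A(T) - A₁(T)` of order prime to `|T_F|`, `T` is the only maximal subgroup over `C_G(x)`. -/
theorem unique_over_centralizer (hB : BG16 G) {T : Subgroup G} (hT : IsCoatom T) {x : G}
    (hx : x ∈ Cfsg.Agent.Lib.OddOrder.TypeOne.typeA T) (hx1 : x ∉ Cfsg.typeA1 T)
    (hcop : (orderOf x).Coprime (Nat.card (Cfsg.fittingHallOf T))) :
    Subgroup.centralizer ({x} : Set G) ≤ T ∧
      ∀ L : Subgroup G, IsCoatom L → Subgroup.centralizer ({x} : Set G) ≤ L → L = T := by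
  have hcases : ∃ D U : Subgroup G, D ≤ T ∧ x ∈ D ∧
      ((Cfsg.Agent.Lib.OddOrder.TypeOne.IsTypeI T ∧ Cfsg.IsComplIn (Cfsg.fittingHallOf T) U T) ∨
        (Cfsg.IsOfTypeII T ∧ Cfsg.IsComplIn (Cfsg.fittingHallOf T) U ⁅T, T⁆)) ∧
      Cfsg.IsComplIn (Cfsg.fittingHallOf T) U D ∧
      ∃ y ∈ Cfsg.fittingHallOf T, y ≠ 1 ∧ x * y = y * x := by
    by_cases hI : Cfsg.Agent.Lib.OddOrder.TypeOne.IsTypeI T
    · rw [Cfsg.Agent.Lib.OddOrder.TypeOne.typeA, if_pos hI] at hx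
      obtain ⟨hxT, -, y, hy, hy1, hc⟩ := hx
      obtain ⟨-, -, -, -, U, -, hU, -⟩ := hI.1
      have hUc : Cfsg.IsComplIn (Cfsg.fittingHallOf T) (U.map T.subtype) T := by
        refine ⟨fittingHallOf_le T, Subgroup.map_subtype_le _, ?_, fun m hm => ?_⟩
        · rw [Cfsg.fittingHallOf, ← Subgroup.map_inf _ _ _ (Subgroup.subtype_injective T),
            hU.disjoint.eq_bot, Subgroup.map_bot]
        · obtain ⟨⟨a, b⟩, hab⟩ := hU.2 ⟨m, hm⟩
          exact ⟨_, ⟨a, a.2, rfl⟩, _, ⟨b, b.2, rfl⟩, (congrArg Subtype.val hab).symm⟩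
      exact ⟨T, U.map T.subtype, le_rfl, hxT, Or.inl ⟨hI, hUc⟩, hUc, y, hy, hy1, hc⟩
    · rw [Cfsg.Agent.Lib.OddOrder.TypeOne.typeA, if_neg hI] at hx
      obtain ⟨hxD, hxne, y, hy, hy1, hc⟩ := hx
      have hPT := (Dade.typeI_or_P hB hT).resolve_left hI
      obtain ⟨W₁, U, W₂, hP⟩ := hPT
      have hII : Cfsg.IsOfTypeII T := by
        rcases hB.types T hT with h | h | h | h | h
        · exact absurd h hI
        · exact h
        all_goals
          refine absurd ?_ hx1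
          refine ⟨?_, hxne⟩
        · rw [(TypeP.step_8_5.typeIII T hT _ _ _ hP h).2.2.2.2.2.2.2.2]; exact hxD
        · rw [(TypeP.step_8_5.typeIV T hT _ _ _ hP h).2.2.2.2.2.2.2.2]; exact hxD
        · rw [(TypeP.step_8_5.typeV T hT _ _ _ hP h).2.2.2.2.2]; exact hxD
      rw [(TypeP.step_8_5.typeII T hT _ _ _ hP hII).2.2.2.2.2.2.2.2.2.2] at hy
      exact ⟨⁅T, T⁆, U, derived_le T, hxD, Or.inr ⟨hII, hP.U_compl⟩, hP.U_compl, y, hy, hy1, hc⟩
  obtain ⟨D, U, hDT, hxD, hU, hUD, y, hy, hy1, hxy⟩ := hcases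
  set H := Cfsg.fittingHallOf T with hH
  set A := Subgroup.zpowers x with hA
  have hAT : A ≤ T := Subgroup.zpowers_le.2 (hDT hxD)
  have hAN : A ≤ Subgroup.normalizer (H : Set G) := hAT.trans (fittingHallOf_normal T)
  have hXD : H ⊔ A ≤ D := sup_le hUD.1 (Subgroup.zpowers_le.2 hxD)
  have hB' := isComplIn_of_le hUD (le_sup_left : H ≤ H ⊔ A) hXD
  have hcopA : (Nat.card A).Coprime (Nat.card H) := by rwa [hA, Nat.card_zpowers]
  have hA' : Cfsg.IsComplIn H A (H ⊔ A) := by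
    refine ⟨le_sup_left, le_sup_right, inf_eq_bot_of_coprime hcopA.symm, fun m hm => ?_⟩
    have : m ∈ ((H ⊔ A : Subgroup G) : Set G) := hm
    rw [Subgroup.coe_mul_of_right_le_normalizer_left _ _ hAN] at this
    obtain ⟨a, ha, b, hb, rfl⟩ := this
    exact ⟨a, ha, b, hb, rfl⟩
  letI : CommGroup A := IsCyclic.commGroup
  obtain ⟨k, hk, hkA⟩ := Coprime.exists_conj_eq_of_coprime (A := A) (B := (H ⊔ A) ⊓ U) (K := H) hAN hcopA
    (Or.inl inferInstance) (inf_le_left.trans (by rw [sup_comm]))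
    (by rw [← isComplIn_relIndex hB', ← isComplIn_relIndex hA'])
  have hkT : k ∈ T := fittingHallOf_le T hk
  have hx'U : k * x * k⁻¹ ∈ U := by
    have h : k * x * k⁻¹ ∈ MulAut.conj k • A :=
      Subgroup.smul_mem_pointwise_smul x (MulAut.conj k) A (Subgroup.mem_zpowers x)
    rw [hkA] at h
    exact h.2
  have hxne : x ≠ 1 := (Dade.typeA_facts T hx).2
  obtain ⟨hle, huniq⟩ := (hB.cent T hT U hU).2.1 {k * x * k⁻¹}
    (by
      rintro _ rfl
      exact ⟨hx'U, by simpa using hxne⟩)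
    (Set.singleton_nonempty _)
    (by
      intro h
      apply hy1
      have hm : k * y * k⁻¹ ∈ H ⊓ Subgroup.centralizer ({k * x * k⁻¹} : Set G) := by
        refine ⟨H.mul_mem (H.mul_mem hk hy) (H.inv_mem hk), Subgroup.mem_centralizer_singleton_iff.2 ?_⟩
        calc k * y * k⁻¹ * (k * x * k⁻¹) = k * (y * x) * k⁻¹ := by group
          _ = k * (x * y) * k⁻¹ := by rw [hxy]
          _ = _ := by group
      rw [h, Subgroup.mem_bot] at hm
      simpa using hm)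
  have hkC : Conj.im (MulAut.conj k) (Subgroup.centralizer ({x} : Set G)) =
      Subgroup.centralizer ({k * x * k⁻¹} : Set G) := by
    rw [Conj.im_centralizer_singleton]; rfl
  refine ⟨?_, fun L hL hxL => ?_⟩
  · rw [← Conj.im_le (MulAut.conj k), hkC, TypeP.im_conj_self hkT]; exact hle
  · have := huniq (Conj.im (MulAut.conj k) L) (Conj.im_isCoatom _ hL)
      (by rw [← hkC, Conj.im_le]; exact hxL)
    rwa [← TypeP.im_conj_self hkT, Conj.im_inj] at this

/-- (8.17), first two assertions. -/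
theorem supports_basic (hG : Cfsg.IsMinSimpleOddOrder G) (hB : BG16 G) {S T : Subgroup G} (hS : IsCoatom S)
    (hT : IsCoatom T) (hnc : ∀ g : G, T.map (MulAut.conj g).toMonoidHom ≠ S) :
    (Cfsg.Agent.Lib.OddOrder.TypeOne.Supports T S ↔ (Cfsg.typeA1 S ∩ Cfsg.Agent.Lib.OddOrder.TypeOne.typeA T).Nonempty) ∧
    (∀ x ∈ Cfsg.typeA1 S ∩ Cfsg.Agent.Lib.OddOrder.TypeOne.typeA T, ¬ Subgroup.centralizer ({x} : Set G) ≤ S ∧
      Subgroup.centralizer ({x} : Set G) ≤ T) := by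
  have h2 : ∀ x ∈ Cfsg.typeA1 S ∩ Cfsg.Agent.Lib.OddOrder.TypeOne.typeA T, ¬ Subgroup.centralizer ({x} : Set G) ≤ S ∧
      Subgroup.centralizer ({x} : Set G) ≤ T := by
    rintro x ⟨⟨hxS, hx1⟩, hxT⟩
    have hx1' : x ≠ 1 := hx1
    have hcc := core_coprime hG hB hS hT hnc
    have hdvd : orderOf x ∣ Nat.card (Cfsg.typeCore S) := Subgroup.orderOf_dvd_natCard _ hxS
    have hnA1 : x ∉ Cfsg.typeA1 T := fun h =>
      hx1' (eq_one_of_coprime hcc hdvd (Subgroup.orderOf_dvd_natCard _ h.1))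
    obtain ⟨hle, huniq⟩ := unique_over_centralizer hB hT hxT hnA1
      ((hcc.coprime_dvd_left hdvd).coprime_dvd_right
        (Subgroup.card_dvd_of_le (Dade.fittingHallOf_le_typeCore hB hT)))
    refine ⟨fun h => hnc 1 ?_, hle⟩
    rw [huniq S hS h]
    exact TypeP.im_conj_self (one_mem T)
  refine ⟨⟨?_, ?_⟩, h2⟩
  · rintro ⟨-, x, hx, hxS, hxT⟩
    obtain ⟨-, h21, h31⟩ := hB.embed S hS _ (Or.inr rfl)
    exact ⟨x, (h21 x hx hxS).1, (h31 x hx hxS T hT hxT).2.2.2.2.1.1⟩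
  · rintro ⟨x, hx⟩
    exact ⟨hT, x, Dade.typeA_subset_typeA0 S (Dade.typeA1_subset hB hS hx.1), (h2 x hx).1, (h2 x hx).2⟩

theorem nc_im {S T : Subgroup G} (hnc : ∀ g : G, T.map (MulAut.conj g).toMonoidHom ≠ S) (c : G) :
    ∀ g : G, (Conj.im (MulAut.conj c) T).map (MulAut.conj g).toMonoidHom ≠ S := fun g h =>
  hnc (g * c) ((TypeP.im_conj_mul g c T).symm.trans h)

theorem nc_symm {S T : Subgroup G} (hnc : ∀ g : G, T.map (MulAut.conj g).toMonoidHom ≠ S) :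
    ∀ g : G, S.map (MulAut.conj g).toMonoidHom ≠ T := fun g h => by
  refine hnc g⁻¹ ?_
  rw [← h]
  exact im_inv_im g S

theorem supports_tilde (hG : Cfsg.IsMinSimpleOddOrder G) (hB : BG16 G) {S T : Subgroup G} (hS : IsCoatom S)
    (hT : IsCoatom T) (hnc : ∀ g : G, T.map (MulAut.conj g).toMonoidHom ≠ S) :
    (∃ g : G, Cfsg.Agent.Lib.OddOrder.TypeOne.Supports (T.map (MulAut.conj g).toMonoidHom) S) ↔
      (Cfsg.tildeOf S (Cfsg.typeA1 S) ∩ Cfsg.tildeOf T (Cfsg.Agent.Lib.OddOrder.TypeOne.typeA T)).Nonempty := by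
  have hnc' : ∀ c, ∀ g : G, (Conj.im (MulAut.conj c) T).map (MulAut.conj g).toMonoidHom ≠ S := nc_im hnc
  constructor
  · rintro ⟨g, hg⟩
    obtain ⟨x, hx1, hxA⟩ := (supports_basic hG hB hS (Conj.im_isCoatom _ hT) (hnc' g)).1.1 hg
    refine ⟨x, ⟨x, hx1, 1, one_mem _, 1, by simp⟩, ⟨g⁻¹ * x * g, ?_, 1, one_mem _, g, by group⟩⟩
    have h := (Conj.mem_typeA_im (MulAut.conj g) (M := T) (x := g⁻¹ * x * g)).1
    refine h ?_
    rw [show MulAut.conj g (g⁻¹ * x * g) = x by simp [mul_assoc]]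
    exact hxA
  · rintro ⟨_, ⟨a, ha, r, hr, y₁, rfl⟩, ⟨b, hb, v, hv, y₂, he⟩⟩
    have hD := (Dade.step_8_15 hG hB S hS _ (Or.inr (Or.inr rfl))).2
    have hDT := (Dade.step_8_15 hG hB T hT _ (Or.inr (Or.inr rfl))).2
    have ha0 : a ∈ Cfsg.Agent.Lib.OddOrder.TypeOne.typeA0 S := Dade.typeA_subset_typeA0 S (Dade.typeA1_subset hB hS ha)
    have hb0 : b ∈ Cfsg.Agent.Lib.OddOrder.TypeOne.typeA0 T := Dade.typeA_subset_typeA0 T hb
    obtain ⟨k, hk⟩ := Cfsg.Agent.Lib.Isometry.TI.exists_pow hD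
    obtain ⟨kT, hkT⟩ := Cfsg.Agent.Lib.Isometry.TI.exists_pow hDT
    set y := y₂⁻¹ * y₁ with hy
    have hbv : b * v = y * (a * r) * y⁻¹ := by
      calc b * v = y₂⁻¹ * (y₂ * (b * v) * y₂⁻¹) * y₂ := by group
        _ = y₂⁻¹ * (y₁ * (a * r) * y₁⁻¹) * y₂ := by rw [← he]
        _ = _ := by rw [hy]; group
    have hane : a ≠ 1 := ha.2
    have hA1nA : ∀ g, ∀ z ∈ Cfsg.typeA1 S, z ∈ Cfsg.Agent.Lib.OddOrder.TypeOne.typeA (Conj.im (MulAut.conj g) T) →
        ∃ g : G, Cfsg.Agent.Lib.OddOrder.TypeOne.Supports (T.map (MulAut.conj g).toMonoidHom) S := fun g z h1 h2 =>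
      ⟨g, (supports_basic hG hB hS (Conj.im_isCoatom _ hT) (hnc' g)).1.2 ⟨z, h1, h2⟩⟩
    by_cases hv1 : v = 1
    · subst hv1
      rw [mul_one] at hbv
      have hbk : b ^ k = y * a * y⁻¹ := by rw [hbv, conj_pow, hk a ha0 r hr]
      have hbA := pow_mem_typeA hb (k := k) (by rw [hbk]; simpa using hane)
      refine hA1nA y⁻¹ a ha ?_
      have h := (Conj.mem_typeA_im (MulAut.conj y⁻¹) (M := T)).2 hbA
      rwa [hbk, show MulAut.conj y⁻¹ (y * a * y⁻¹) = a by simp [mul_assoc]] at h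
    · have hbT : ¬ Subgroup.centralizer ({b} : Set G) ≤ T := fun h => hv1 (by
        rw [Dade.supportR_eq_bot h, Subgroup.mem_bot] at hv; exact hv)
      have hb1 := ((hB.embed T hT _ (Or.inr rfl)).2.1 b hb0 hbT).1
      have hbne : b ≠ 1 := (Dade.typeA_facts T hb).2
      have hdb : orderOf b ∣ Nat.card (Cfsg.typeCore T) := Subgroup.orderOf_dvd_natCard _ hb1.1
      have hdS : ∀ j : ℕ, orderOf (a ^ j) ∣ Nat.card (Cfsg.typeCore S) := fun j =>
        Subgroup.orderOf_dvd_natCard _ (pow_mem ha.1 j)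
      have hcc := core_coprime hG hB hS hT hnc
      have hb' : b = y * (a ^ kT * r ^ kT) * y⁻¹ := by
        rw [← hkT b hb0 v hv, hbv, conj_pow, (Cfsg.Agent.Lib.Isometry.TI.commute_of_mem hD ha0 hr).mul_pow]
      have hda : orderOf (a ^ kT) ∣ orderOf b := by
        have hc : Commute (a ^ kT) (r ^ kT) := (Cfsg.Agent.Lib.Isometry.TI.commute_of_mem hD ha0 hr).pow_pow _ _
        have hco : (orderOf (a ^ kT)).Coprime (orderOf (r ^ kT)) := by
          refine Nat.Coprime.coprime_dvd_left (orderOf_pow_dvd kT) (Nat.Coprime.coprime_dvd_right (orderOf_pow_dvd kT) ?_)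
          exact ((hD.coprime a ha0 a ha0).coprime_dvd_right (Subgroup.orderOf_dvd_natCard _
            (Cfsg.Agent.Lib.Isometry.TI.self_mem_CL hD ha0))).symm.coprime_dvd_right (Subgroup.orderOf_dvd_natCard _ hr)
        have : orderOf b = orderOf (a ^ kT) * orderOf (r ^ kT) := by
          rw [hb', orderOf_conj',
            hc.orderOf_mul_eq_mul_orderOf_of_coprime hco]
        rw [this]; exact dvd_mul_right _ _
      rw [eq_one_of_coprime hcc (hdS kT) (hda.trans hdb), one_mul] at hb'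
      have hr1 : r ≠ 1 := fun e => hbne (by rw [hb', e]; group)
      have haS : ¬ Subgroup.centralizer ({a} : Set G) ≤ S := fun h => hr1 (by
        rw [Dade.supportR_eq_bot h, Subgroup.mem_bot] at hr; exact hr)
      obtain ⟨L, hL, haL, -, hRL⟩ := Dade.supportR_spec hB hS ha0 haS
      rw [hRL] at hr
      have hbo : orderOf b ∣ Nat.card (Cfsg.typeCore L) := by
        rw [hb', orderOf_conj']
        exact Subgroup.orderOf_dvd_natCard _
          (pow_mem (Dade.fittingHallOf_le_typeCore hB hL hr.1) kT)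
      obtain ⟨p, hp, hpd⟩ := Nat.exists_prime_and_dvd (n := orderOf b)
        (fun h => hbne (orderOf_eq_one_iff.1 h))
      obtain ⟨g, hg⟩ := conj_of_common hG hB hL hT hp (hpd.trans hbo) (hpd.trans hdb)
      exact ⟨g, hg ▸ ⟨hL, a, ha0, haS, haL⟩⟩

theorem not_mutual (hG : Cfsg.IsMinSimpleOddOrder G) (hB : BG16 G) {S T : Subgroup G} (hS : IsCoatom S)
    (hT : IsCoatom T) (hnc : ∀ g : G, T.map (MulAut.conj g).toMonoidHom ≠ S)
    (h1 : ∃ g : G, Cfsg.Agent.Lib.OddOrder.TypeOne.Supports (T.map (MulAut.conj g).toMonoidHom) S)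
    (h2 : ∃ g : G, Cfsg.Agent.Lib.OddOrder.TypeOne.Supports (S.map (MulAut.conj g).toMonoidHom) T) : False := by
  obtain ⟨g, hg⟩ := h1
  obtain ⟨g₂, hg₂⟩ := h2
  set T₁ := Conj.im (MulAut.conj g) T with hT₁
  have hT₁c : IsCoatom T₁ := Conj.im_isCoatom _ hT
  set c := g * g₂ with hc
  have hsup : Cfsg.Agent.Lib.OddOrder.TypeOne.Supports (Conj.im (MulAut.conj c) S) T₁ := by
    have h := Conj.supports_im (MulAut.conj g) hg₂
    rw [show Conj.im (MulAut.conj g) (S.map (MulAut.conj g₂).toMonoidHom) = Conj.im (MulAut.conj c) S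
      from TypeP.im_conj_mul g g₂ S] at h
    exact h
  have hnc₁ : ∀ e : G, (Conj.im (MulAut.conj c) S).map (MulAut.conj e).toMonoidHom ≠ T₁ :=
    nc_im (nc_symm (nc_im hnc g)) c
  obtain ⟨z, hz1, hzA⟩ := (supports_basic hG hB hT₁c (Conj.im_isCoatom _ hS) hnc₁).1.1 hsup
  obtain ⟨-, x, hx, hxS, hxT⟩ := hg
  obtain ⟨-, h21, h31⟩ := hB.embed S hS _ (Or.inr rfl)
  obtain ⟨-, -, -, hcop, -, htype, -⟩ := h31 x hx hxS T₁ hT₁c hxT
  have hcore : Cfsg.typeCore T₁ = Cfsg.fittingHallOf T₁ := by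
    rcases htype with h | h
    · rw [Cfsg.typeCore, if_neg]
      rintro (k | k)
      · exact TypeP.not_typeI (TypeP.isOfTypeP_of (Or.inr (Or.inl k))) h
      · exact TypeP.not_typeI (TypeP.isOfTypeP_of (Or.inr (Or.inr (Or.inl k)))) h
    · obtain ⟨W₁, U, W₂, hP⟩ := TypeP.isOfTypeP_of (Or.inl h)
      exact (TypeP.step_8_5.typeII T₁ hT₁c _ _ _ hP h).2.2.2.2.2.2.2.2.2.2
  have hz' : c⁻¹ * z * c ∈ Cfsg.Agent.Lib.OddOrder.TypeOne.typeA S := by
    have h : MulAut.conj c (c⁻¹ * z * c) = z := by simp [mul_assoc]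
    rw [← h] at hzA
    exact (Conj.mem_typeA_im _).1 hzA
  have hzne : z ≠ 1 := hz1.2
  refine hzne ?_
  have ho : orderOf (c⁻¹ * z * c) = orderOf z := by
    have := orderOf_injective (MulAut.conj c).toMonoidHom (MulAut.conj c).injective (c⁻¹ * z * c)
    rw [MulEquiv.coe_toMonoidHom, show MulAut.conj c (c⁻¹ * z * c) = z by simp [mul_assoc]] at this
    exact this.symm
  refine eq_one_of_coprime (hcop _ (Dade.typeA_subset_typeA0 S hz')) ?_ ?_
  · have := hz1.1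
    rw [SetLike.mem_coe, hcore] at this
    exact Subgroup.orderOf_dvd_natCard _ this
  · rw [← ho]
    exact Subgroup.orderOf_dvd_natCard _
      ⟨(Dade.typeA_facts S hz').1, Subgroup.mem_centralizer_singleton_iff.2 rfl⟩

theorem step_8_17 (hG : Cfsg.IsMinSimpleOddOrder G) (hB : BG16 G) : Interface.PF8.Step_8_17 G := by
  intro S T hS hT hnc
  obtain ⟨h1, h2⟩ := supports_basic hG hB hS hT hnc
  refine ⟨h1, h2, supports_tilde hG hB hS hT hnc, ?_⟩
  by_contra h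
  rw [not_or] at h
  exact not_mutual hG hB hS hT hnc ((supports_tilde hG hB hS hT hnc).2 (Set.nonempty_iff_ne_empty.2 h.1))
    ((supports_tilde hG hB hT hS (nc_symm hnc)).2 (Set.nonempty_iff_ne_empty.2 h.2))

end Cfsg.Agent.Lib.OddOrder.PF8.Supports
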