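import Cfsg.Agent.Lib.OddOrder.TypeOne
import Cfsg.Agent.Lib.OddOrder.PF8.Supports
import Cfsg.Agent.Lib.OddOrder.SigmaHall
import Cfsg.Agent.Lib.OddOrder.Cyclic

/-!
# Peterfalvi (8.18): `κ(M)` in the language of types, and the covering of `G - 1`
-/

set_option autoImplicit false

open scoped Pointwise commutatorElement

namespace Cfsg.Agent.Lib.OddOrder.PF8.Cover

open Cfsg.Agent.Lib.OddOrder.Basic
open Cfsg.Agent.Lib.OddOrder.TypeP (derived_le U_le coprime_H_U)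
open Interface.PF8 (BG16 BG14 cyclicSet)

universe u

variable {G : Type u} [Group G] [Finite G]

theorem complIn_sup {H A : Subgroup G} (hN : A ≤ Subgroup.normalizer (H : Set G)) (h : H ⊓ A = ⊥) :
    Cfsg.IsComplIn H A (H ⊔ A) := by
  refine ⟨le_sup_left, le_sup_right, h, fun m hm => ?_⟩
  have : m ∈ ((H ⊔ A : Subgroup G) : Set G) := hm
  rw [Subgroup.coe_mul_of_right_le_normalizer_left _ _ hN] at this
  obtain ⟨a, ha, b, hb, rfl⟩ := this
  exact ⟨a, ha, b, hb, rfl⟩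

/-- For `p ∈ κ(M)` every element of order `p` of `M` centralises a non-identity element of `M_σ`. -/
theorem kappa_fixed {M : Subgroup G} {p : ℕ} [Fact p.Prime] (hk : p ∈ Cfsg.kappa M) {u : G}
    (hu : u ∈ M) (ho : orderOf u = p) : ∃ y ∈ Cfsg.sigmaCore M, y ≠ 1 ∧ u * y = y * u := by
  obtain ⟨-, -, -, hS⟩ := hk
  have hup : IsPGroup p (Subgroup.zpowers (⟨u, hu⟩ : M)) :=
    IsPGroup.of_card (n := 1) (by rw [Nat.card_zpowers, pow_one, ← ho, ← Subgroup.orderOf_coe])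
  obtain ⟨P, hP⟩ := hup.exists_le_sylow
  obtain ⟨hcyc, x, hx, hx1, y, hy, hy1, hxy⟩ := hS P
  refine ⟨y, hy, hy1, ?_⟩
  haveI := hcyc
  obtain ⟨k, hk⟩ := IsPGroup.iff_orderOf.1 P.2 ⟨x, hx⟩
  have hxo : orderOf x = p ^ k := by rw [← hk]; exact (Subgroup.orderOf_mk x hx).symm
  have hpx : p ∣ orderOf x := by
    rcases Nat.eq_zero_or_pos k with rfl | hk0
    · exact absurd (orderOf_eq_one_iff.1 (by simpa using hxo)) hx1
    · rw [hxo]; exact dvd_pow_self p hk0.ne'
  obtain ⟨z, hz⟩ := exists_prime_orderOf_dvd_card' (G := Subgroup.zpowers x) p (by rwa [Nat.card_zpowers])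
  have hzP : Subgroup.zpowers (z : M) ≤ (P : Subgroup M) :=
    Subgroup.zpowers_le.2 ((Subgroup.zpowers_le.2 hx : Subgroup.zpowers x ≤ (P : Subgroup M)) z.2)
  have he := Cyclic.eq_of_card_eq_of_isCyclic (W := (P : Subgroup M)) hP hzP
    (by rw [Nat.card_zpowers, Nat.card_zpowers, Subgroup.orderOf_coe, hz, ← Subgroup.orderOf_coe]; exact ho)
  have humem : (⟨u, hu⟩ : M) ∈ Subgroup.zpowers x := by
    have h1 := Subgroup.mem_zpowers (⟨u, hu⟩ : M)
    rw [he] at h1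
    exact (Subgroup.zpowers_le.2 z.2) h1
  obtain ⟨j, hj⟩ := Subgroup.mem_zpowers_iff.1 humem
  have : u = (x : G) ^ j := by
    have := congrArg Subtype.val hj
    simpa using this.symm
  rw [this]
  exact (Commute.zpow_left hxy j).eq

theorem typeI_core {M : Subgroup G} (hI : Cfsg.Agent.Lib.OddOrder.TypeOne.IsTypeI M) : Cfsg.typeCore M = Cfsg.fittingHallOf M := by
  rw [Cfsg.typeCore, if_neg]
  rintro (k | k)
  · exact TypeP.not_typeI (TypeP.isOfTypeP_of (Or.inr (Or.inl k))) hI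
  · exact TypeP.not_typeI (TypeP.isOfTypeP_of (Or.inr (Or.inr (Or.inl k)))) hI

theorem kappa_typeI (hB : BG16 G) {M : Subgroup G} (hM : IsCoatom M) (hI : Cfsg.Agent.Lib.OddOrder.TypeOne.IsTypeI M) :
    Cfsg.kappa M = ∅ := by
  refine Set.eq_empty_of_forall_notMem fun p hk => ?_
  have := Fact.mk hk.1
  have hcore : Cfsg.sigmaCore M = Cfsg.fittingHallOf M := (hB.core_eq M hM).symm.trans (typeI_core hI)
  refine TypeP.typeF_fixed_contra hI.1 hk.2.1 (fun h => hk.2.2.1 ?_) fun u hu => ?_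
  · refine Supports.prime_mem_sigma hB hM hk.1 ?_
    rw [typeI_core hI, Cfsg.fittingHallOf, Subgroup.card_map_of_injective (Subgroup.subtype_injective M)]
    exact h
  · obtain ⟨y, hy, hy1, hc⟩ := kappa_fixed hk u.2 (by rw [Subgroup.orderOf_coe]; exact hu)
    rw [hcore] at hy
    obtain ⟨z, hz, rfl⟩ := hy
    exact ⟨z, hz, fun e => hy1 (by simp [e]), Subtype.ext hc⟩

theorem kappa_not_dvd_derived (hB : BG16 G) {M : Subgroup G} (hM : IsCoatom M) (hP : Cfsg.IsOfTypeP M)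
    {p : ℕ} (hk : p ∈ Cfsg.kappa M) : ¬ p ∣ Nat.card ↥⁅M, M⁆ := by
  have := Fact.mk hk.1
  intro hd
  obtain ⟨W₁, U, W₂, hP⟩ := hP
  rcases hB.types M hM with h | h | h | h | h
  · exact TypeP.not_typeI ⟨_, _, _, hP⟩ h
  · obtain ⟨-, -, -, -, -, hF, hFH, -, -, -, hcore⟩ := TypeP.step_8_5.typeII M hM _ _ _ hP h
    refine TypeP.typeF_fixed_contra hF hd (fun h' => hk.2.2.1 ?_) fun u hu => ?_
    · refine Supports.prime_mem_sigma hB hM hk.1 ?_
      rw [hcore, ← hFH, Cfsg.fittingHallOf, Subgroup.card_map_of_injective (Subgroup.subtype_injective _)]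
      exact h'
    · obtain ⟨y, hy, hy1, hc⟩ := kappa_fixed hk (derived_le M u.2) (by rw [Subgroup.orderOf_coe]; exact hu)
      rw [← hB.core_eq M hM, hcore, ← hFH] at hy
      obtain ⟨z, hz, rfl⟩ := hy
      exact ⟨z, hz, fun e => hy1 (by simp [e]), Subtype.ext hc⟩
  all_goals refine hk.2.2.1 (Supports.prime_mem_sigma hB hM hk.1 ?_)
  · rwa [(TypeP.step_8_5.typeIII M hM _ _ _ hP h).2.2.2.2.2.2.2.2]
  · rwa [(TypeP.step_8_5.typeIV M hM _ _ _ hP h).2.2.2.2.2.2.2.2]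
  · rwa [(TypeP.step_8_5.typeV M hM _ _ _ hP h).2.2.2.2.2]

theorem dvd_W₁_mem_kappa (hG : Cfsg.IsMinSimpleOddOrder G) (hB : BG16 G) {M W₁ U W₂ : Subgroup G}
    (hM : IsCoatom M) (hP : Cfsg.IsTypePWith M W₁ U W₂) {p : ℕ} (hp : p.Prime) (hd : p ∣ Nat.card W₁) :
    p ∈ Cfsg.kappa M := by
  have := Fact.mk hp
  have hW : W₁ ≤ M := hP.W₁_compl.2.1
  have hpM : p ∣ Nat.card M := hd.trans (Subgroup.card_dvd_of_le hW)
  have hcoreD : Cfsg.sigmaCore M ≤ ⁅M, M⁆ := by
    rw [← hB.core_eq M hM]; exact (TypeP.typeCore_bounds hP).2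
  have hsig : p ∉ Cfsg.sigma M := by
    intro hs
    obtain ⟨hle, -, hnd⟩ := SigmaHall.sigmaCore_isPiHallOf hG hM
    have h1 := hnd p hp hs
    have h2 : p ∣ Nat.card (Cfsg.sigmaCore M) := by
      rw [← Subgroup.relIndex_bot_left M, ← Subgroup.relIndex_mul_relIndex ⊥ (Cfsg.sigmaCore M) M bot_le hle,
        Subgroup.relIndex_bot_left] at hpM
      exact (hp.dvd_mul.1 hpM).resolve_right h1
    exact hp.not_dvd_one ((TypeP.coprime_W₁ hP) ▸ Nat.dvd_gcd hd (h2.trans (Subgroup.card_dvd_of_le hcoreD)))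
  refine ⟨hp, hpM, hsig, fun P => ⟨?_, ?_⟩⟩
  · obtain ⟨Q⟩ : Nonempty (Sylow p (W₁.subgroupOf M : Subgroup M)) := inferInstance
    haveI := hP.W₁_cyclic
    haveI : IsCyclic (W₁.subgroupOf M : Subgroup M) :=
      isCyclic_of_surjective (Subgroup.subgroupOfEquivOfLe hW).symm.toMonoidHom
        (Subgroup.subgroupOfEquivOfLe hW).symm.surjective
    have hcard : Nat.card ((Q : Subgroup (W₁.subgroupOf M : Subgroup M)).map (W₁.subgroupOf M).subtype : Subgroup M) =
        p ^ (Nat.card M).factorization p := by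
      rw [Subgroup.card_map_of_injective (Subgroup.subtype_injective _), Q.card_eq_multiplicity,
        Nat.card_congr (Subgroup.subgroupOfEquivOfLe hW).toEquiv]
      congr 1
      rw [← Subgroup.card_mul_index (W₁.subgroupOf M),
        Nat.card_congr (Subgroup.subgroupOfEquivOfLe hW).toEquiv,
        Nat.factorization_mul Nat.card_pos.ne' Subgroup.index_ne_zero_of_finite, Finsupp.add_apply,
        Nat.factorization_eq_zero_of_not_dvd (n := (W₁.subgroupOf M).index), add_zero]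
      exact fun h => hp.not_dvd_one (hP.W₁_hall ▸ Nat.dvd_gcd hd h)
    let R : Sylow p M := Sylow.ofCard _ hcard
    have hR : IsCyclic R := by
      change IsCyclic ((Q : Subgroup (W₁.subgroupOf M : Subgroup M)).map (W₁.subgroupOf M).subtype : Subgroup M)
      exact isCyclic_of_surjective _
        (((Q : Subgroup (W₁.subgroupOf M : Subgroup M)).equivMapOfInjective _
          (Subgroup.subtype_injective _)).surjective)
    exact isCyclic_of_surjective (R.equiv P).toMonoidHom (R.equiv P).surjective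
  · obtain ⟨x, hx, hx1⟩ := (P : Subgroup M).bot_or_exists_ne_one.resolve_left
      (P.ne_bot_of_dvd_card hpM)
    obtain ⟨k, hk⟩ := IsPGroup.iff_orderOf.1 P.2 ⟨x, hx⟩
    obtain ⟨y, hy, hy1, hc⟩ := TypeP.exists_fixed hP hd x.2 (k := k) (by rw [← hk, Subgroup.orderOf_mk, Subgroup.orderOf_coe])
    refine ⟨x, hx, hx1, y, ?_, hy1, hc⟩
    rw [← hB.core_eq M hM]
    exact (TypeP.typeCore_bounds hP).1 hy

/-- For data `(W₁, U, W₂)` of a maximal subgroup of type P, `W₁` is the `K` of a standard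
factorisation. -/
theorem exists_decomposition (hG : Cfsg.IsMinSimpleOddOrder G) (hB : BG16 G) {M W₁ U W₂ : Subgroup G}
    (hM : IsCoatom M) (hP : Cfsg.IsTypePWith M W₁ U W₂) :
    ∃ U' : Subgroup G, Cfsg.IsSigmaDecomposition M W₁ U' := by
  have hW : W₁ ≤ M := hP.W₁_compl.2.1
  have hhall : Cfsg.IsPiHallOf (Cfsg.kappa M) W₁ M := by
    refine ⟨hW, fun p hp hd => dvd_W₁_mem_kappa hG hB hM hP hp hd, fun p _ hk hd => ?_⟩
    rw [isComplIn_relIndex (isComplIn_symm hP.W₁_compl)] at hd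
    exact kappa_not_dvd_derived hB hM ⟨_, _, _, hP⟩ hk hd
  have hcore := hB.core_eq M hM
  by_cases hcD : Cfsg.typeCore M = ⁅M, M⁆
  · refine ⟨⊥, hP.W₁_cyclic, hhall, ⟨bot_le, sup_le hW (by rw [← hcore, hcD]; exact derived_le M),
      bot_inf_eq _, fun m hm => ⟨1, one_mem _, m, ?_, (one_mul m).symm⟩⟩, ?_⟩
    · rw [← hcore, hcD, sup_comm, isComplIn_sup hP.W₁_compl]; exact hm
    · intro g _
      rw [Subgroup.mem_normalizer_iff]
      intro x
      simp
  · have hII : Cfsg.IsOfTypeII M := by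
      rcases hB.types M hM with h | h | h | h | h
      · exact absurd h (TypeP.not_typeI ⟨_, _, _, hP⟩)
      · exact h
      all_goals exfalso; apply hcD
      · exact (TypeP.step_8_5.typeIII M hM _ _ _ hP h).2.2.2.2.2.2.2.2
      · exact (TypeP.step_8_5.typeIV M hM _ _ _ hP h).2.2.2.2.2.2.2.2
      · exact (TypeP.step_8_5.typeV M hM _ _ _ hP h).2.2.2.2.2
    have hc := (TypeP.step_8_5.typeII M hM _ _ _ hP hII).2.2.2.2.2.2.2.2.2.2
    rw [hcore] at hc
    refine ⟨U, hP.W₁_cyclic, hhall, ?_, hP.U_normal⟩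
    rw [hc, sup_comm]
    have hHD : Cfsg.fittingHallOf M ≤ ⁅M, M⁆ := hP.U_compl.1
    have hHW := complIn_sup (hW.trans (fittingHallOf_normal M))
      (inf_eq_bot_of_coprime ((TypeP.coprime_W₁ hP).coprime_dvd_right (Subgroup.card_dvd_of_le hHD)).symm)
    have hUW : (Nat.card W₁).Coprime (Nat.card U) :=
      (TypeP.coprime_W₁ hP).coprime_dvd_right (Subgroup.card_dvd_of_le hP.U_compl.2.1)
    refine isComplIn_of_card (U_le hP) (sup_le (fittingHallOf_le M) hW) (inf_eq_bot_of_coprime ?_) ?_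
    · rw [← isComplIn_card hHW]
      exact (coprime_H_U hP).symm.mul_right hUW.symm
    · rw [← isComplIn_card hHW, ← isComplIn_card hP.W₁_compl, ← isComplIn_card hP.U_compl]
      ring

theorem core_inf_centralizer {M W₁ U W₂ : Subgroup G} (hP : Cfsg.IsTypePWith M W₁ U W₂) :
    Cfsg.typeCore M ⊓ Subgroup.centralizer (W₁ : Set G) = W₂ := by
  obtain ⟨x, hx, hx1⟩ := W₁.bot_or_exists_ne_one.resolve_left hP.W₁_ne
  refine le_antisymm ?_ (le_inf (hP.W₂_le.trans (inf_le_left.trans (TypeP.typeCore_bounds hP).1)) ?_)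
  · rw [← hP.W₂_centralizer x hx hx1]
    exact inf_le_inf (TypeP.typeCore_bounds hP).2 (Subgroup.centralizer_le (Set.singleton_subset_iff.2 hx))
  · exact fun y hy => Subgroup.mem_centralizer_iff.2 fun w hw => TypeP.W₂_commute hP hw hy

theorem step_8_18 (hG : Cfsg.IsMinSimpleOddOrder G) (hB : BG16 G) (hC : BG14 G) :
    Interface.PF8.Step_8_18 G := by
  have hA : ∀ M : Subgroup G, IsCoatom M →
      Cfsg.tildeOf M (Cfsg.typeA1 M) = Cfsg.tildeOf M ((Cfsg.sigmaCore M : Set G) \ {1}) := fun M hM => by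
    rw [Cfsg.typeA1, hB.core_eq M hM]
  obtain ⟨hdis, hI, hP⟩ := hC.cover
  refine ⟨fun M N hM hN h => Supports.core_coprime hG hB hM hN h, fun M N hM hN h => ?_,
    fun M hM => ?_, fun hall g hg => ?_, fun M W₁ U W₂ hM hPM => ?_⟩
  · rw [hA M hM, hA N hN]
    refine hdis M N hM hN fun g e => h g⁻¹ ?_
    rw [e]
    exact Supports.im_inv_im g M
  · rw [hA M hM, hB.core_eq M hM]
    exact hC.count M hM
  · obtain ⟨M, hM, hm⟩ := hI (fun M hM => kappa_typeI hB hM (hall M hM)) g hg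
    exact ⟨M, hM, by rwa [hA M hM]⟩
  · obtain ⟨U', hdec⟩ := exists_decomposition hG hB hM hPM
    have hK : Cfsg.sigmaCore M ⊓ Subgroup.centralizer (W₁ : Set G) = W₂ := by
      rw [← hB.core_eq M hM]; exact core_inf_centralizer hPM
    obtain ⟨h1, h2⟩ := hP M W₁ U' hM hdec hPM.W₁_ne
    rw [hK] at h1 h2
    refine ⟨fun g hg => ?_, fun N hN y z hz => ?_⟩
    · rcases h1 g hg with ⟨N, hN, hm⟩ | ⟨y, z, ⟨hz1, hz2⟩, e⟩
      · exact Or.inl ⟨N, hN, by rwa [hA N hN]⟩
      · exact Or.inr ⟨y, z, ⟨hz1, fun h => hz2 (Or.inl h), fun h => hz2 (Or.inr h)⟩, e⟩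
    · rw [hA N hN]
      exact h2 N hN y z ⟨hz.1, fun h => h.elim hz.2.1 hz.2.2⟩

end Cfsg.Agent.Lib.OddOrder.PF8.Cover
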